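import Groth.Prelude.Def_EndRing
import Groth.Prelude.Def_AlgGrp
import Groth.Agent.GrpdLib.GrpOver
import Groth.Agent.GrpScheme.AffineHom
import Mathlib.CategoryTheory.Abelian.Basic
import Mathlib.CategoryTheory.Limits.Constructions.FiniteProductsOfBinaryProducts

/-!
# Abelian subcategories of commutative group schemes

A full subcategory of commutative group schemes over `S` closed under products and kernels in which
every monomorphism has a faithfully flat quasi-compact quotient is abelian.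
-/

set_option autoImplicit false

universe u

open CategoryTheory CategoryTheory.Limits MonoidalCategory CartesianMonoidalCategory MonObj GrpObj
  AlgebraicGeometry

noncomputable section

namespace Groth.Agent.GrpSGA.AbelianSub

open Groth.Agent.GrpdLib

variable {S : Scheme.{u}}

/-- The underlying morphism of a homomorphism. -/
abbrev un {A B : CommGrp (Over S)} (f : A ⟶ B) : A.X ⟶ B.X := f.hom.hom.hom

/-- A homomorphism from a morphism. -/
def mkHom {A B : CommGrp (Over S)} (f : A.X ⟶ B.X) [IsMonHom f] : A ⟶ B :=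
  InducedCategory.homMk (Grp.homMk'' f)

variable (P : ObjectProperty (CommGrp (Over S)))

/-- The closure conditions. -/
structure IsGood : Prop where
  trivial : P (CommGrp.trivial (Over S))
  prod : ∀ A B, P A → P B → P (CommGrp.mk (A.X ⊗ B.X))
  kernel : ∀ A B (f : A ⟶ B), P A → P B →
    ∃ (K : CommGrp (Over S)) (i : K ⟶ A), P K ∧ AlgGrp.IsKernel (un i) (un f)
  quot : ∀ N A (i : N ⟶ A), P N → P A → Mono (un i) →
    ∃ (Q : CommGrp (Over S)) (q : A ⟶ Q), P Q ∧ Flat (un q).left ∧ Surjective (un q).left ∧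
      QuasiCompact (un q).left ∧ AlgGrp.IsKernel (un i) (un q)

variable {P}

lemma un_inj {A B : P.FullSubcategory} {f g : A ⟶ B} (h : un f.hom = un g.hom) : f = g :=
  InducedCategory.hom_ext (CommGrp.hom_ext _ _ h)

lemma effectiveEpi_of_fpqc {A B : Scheme.{u}} (q : A ⟶ B) [Flat q] [Surjective q] [QuasiCompact q] :
    EffectiveEpi q := inferInstance

/-- Quotient maps are cancellable in pairs. -/
lemma cancel_tensor {A Q H : Over S} (q : A ⟶ Q) (hf : Flat q.left) (hs : Surjective q.left)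
    (hqc : QuasiCompact q.left) {a b : Q ⊗ Q ⟶ H} (h : (q ⊗ₘ q) ≫ a = (q ⊗ₘ q) ≫ b) : a = b := by
  rw [MonoidalCategory.tensorHom_def, Category.assoc, Category.assoc] at h
  have : Flat (q ▷ A).left := GrpScheme.Basic.whiskerRight_mem @Flat q A hf
  have : Surjective (q ▷ A).left := GrpScheme.Basic.whiskerRight_mem @Surjective q A hs
  have : QuasiCompact (q ▷ A).left := GrpScheme.Basic.whiskerRight_mem @QuasiCompact q A hqc
  have : Flat (Q ◁ q).left := GrpScheme.Basic.whiskerLeft_mem @Flat q Q hf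
  have : Surjective (Q ◁ q).left := GrpScheme.Basic.whiskerLeft_mem @Surjective q Q hs
  have : QuasiCompact (Q ◁ q).left := GrpScheme.Basic.whiskerLeft_mem @QuasiCompact q Q hqc
  have : EffectiveEpi (q ▷ A).left := effectiveEpi_of_fpqc _
  have : EffectiveEpi (Q ◁ q).left := effectiveEpi_of_fpqc _
  exact GrpOver.cancel_left (Q ◁ q) (GrpOver.cancel_left (q ▷ A) h)

/-- Descend a homomorphism along a quotient map. -/
lemma exists_desc {N A Q W : CommGrp (Over S)} {i : N ⟶ A} {q : A ⟶ Q} (hf : Flat (un q).left)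
    (hs : Surjective (un q).left) (hqc : QuasiCompact (un q).left) (hk : AlgGrp.IsKernel (un i) (un q))
    (φ : A ⟶ W) (hφ : un i ≫ un φ = 1) : ∃ ψ : Q ⟶ W, q ≫ ψ = φ := by
  have : EffectiveEpi (un q).left := effectiveEpi_of_fpqc _
  obtain ⟨d, hd, -⟩ := GrpOver.existsUnique_desc (un q) (un φ) fun T a b hab => by
    obtain ⟨n, hn⟩ := GrpOver.kernel_factor hk (a * b⁻¹) (by
      rw [MonObj.mul_comp, GrpObj.inv_comp, hab, mul_inv_cancel])
    have h1 : (a * b⁻¹) ≫ un φ = 1 := by rw [← hn, Category.assoc, hφ, MonObj.comp_one]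
    rwa [MonObj.mul_comp, GrpObj.inv_comp, mul_inv_eq_one] at h1
  have : IsMonHom d := by
    refine ⟨?_, cancel_tensor (un q) hf hs hqc ?_⟩
    · rw [← IsMonHom.one_hom (f := un q), Category.assoc, hd, IsMonHom.one_hom]
    · rw [← Category.assoc, ← IsMonHom.mul_hom (f := un q), Category.assoc, hd, IsMonHom.mul_hom,
        ← Category.assoc, tensorHom_comp_tensorHom, hd]
  exact ⟨mkHom d, CommGrp.hom_ext _ _ hd⟩

lemma quot_cancel {A Q : CommGrp (Over S)} {q : A ⟶ Q} (hf : Flat (un q).left)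
    (hs : Surjective (un q).left) (hqc : QuasiCompact (un q).left) {W : CommGrp (Over S)} {a b : Q ⟶ W}
    (h : q ≫ a = q ≫ b) : a = b := by
  have : EffectiveEpi (un q).left := effectiveEpi_of_fpqc _
  exact CommGrp.hom_ext _ _ (GrpOver.cancel_left (un q) (congrArg un h))

/-- Descend a homomorphism through a kernel. -/
lemma exists_lift_kernel {K A B W : CommGrp (Over S)} {i : K ⟶ A} {f : A ⟶ B}
    (hk : AlgGrp.IsKernel (un i) (un f)) (g : W ⟶ A) (hg : un g ≫ un f = 1) :
    ∃ l : W ⟶ K, l ≫ i = g := by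
  obtain ⟨n, hn⟩ := GrpOver.kernel_factor hk (un g) hg
  have := GrpOver.kernel_mono hk
  have : IsMonHom n := by
    refine ⟨?_, ?_⟩
    · rw [← cancel_mono (un i), Category.assoc, hn, IsMonHom.one_hom, IsMonHom.one_hom]
    · rw [← cancel_mono (un i), Category.assoc, hn, Category.assoc, IsMonHom.mul_hom,
        IsMonHom.mul_hom, tensorHom_comp_tensorHom_assoc, hn]
  exact ⟨mkHom n, CommGrp.hom_ext _ _ hn⟩

lemma hom_zero_iff {A B : P.FullSubcategory} (f : A ⟶ B) : f = 0 ↔ un f.hom = 1 :=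
  ⟨fun h => by rw [h]; rfl, fun h => un_inj h⟩

/-- Kernels in the subcategory are kernels of group schemes. -/
lemma exists_kernelFork (hP : IsGood P) {A B : P.FullSubcategory} (f : A ⟶ B) :
    ∃ (K : P.FullSubcategory) (i : K ⟶ A) (w : i ≫ f = 0),
      AlgGrp.IsKernel (un i.hom) (un f.hom) ∧ Nonempty (IsLimit (KernelFork.ofι i w)) := by
  obtain ⟨K, i, hK, hk⟩ := hP.kernel A.obj B.obj f.hom A.property B.property
  have := GrpOver.kernel_mono hk
  let K' : P.FullSubcategory := ⟨K, hK⟩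
  let i' : K' ⟶ A := ObjectProperty.homMk i
  have w : i' ≫ f = 0 := (hom_zero_iff _).2 (GrpOver.kernel_comp hk)
  choose l hl using fun (W : P.FullSubcategory) (g : W ⟶ A) (hg : g ≫ f = 0) =>
    exists_lift_kernel hk g.hom ((hom_zero_iff _).1 hg)
  exact ⟨K', i', w, hk, ⟨KernelFork.IsLimit.ofι i' w (fun {W} g hg => ObjectProperty.homMk (l W g hg))
    (fun {W} g hg => InducedCategory.hom_ext (hl W g hg))
    fun {W} g hg m hm => un_inj ((cancel_mono (un i)).1
      ((congrArg (fun x => un (InducedCategory.Hom.hom x)) hm).trans (congrArg un (hl W g hg)).symm))⟩⟩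

/-- Image factorisation. -/
lemma exists_image (hP : IsGood P) {A B : P.FullSubcategory} (f : A ⟶ B) :
    ∃ (K : P.FullSubcategory) (k : K ⟶ A) (Q : P.FullSubcategory) (q : A ⟶ Q) (j : Q ⟶ B),
      k ≫ f = 0 ∧ q ≫ j = f ∧ Mono (un j.hom) ∧ Flat (un q.hom).left ∧ Surjective (un q.hom).left ∧
      QuasiCompact (un q.hom).left ∧ AlgGrp.IsKernel (un k.hom) (un q.hom) := by
  obtain ⟨K, k, w, hk, -⟩ := exists_kernelFork hP f
  obtain ⟨Q, q, hQ, hf, hs, hqc, hkq⟩ := hP.quot K.obj A.obj k.hom K.property A.property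
    (GrpOver.kernel_mono hk)
  obtain ⟨j, hj⟩ := exists_desc hf hs hqc hkq f.hom (GrpOver.kernel_comp hk)
  refine ⟨K, k, ⟨Q, hQ⟩, ObjectProperty.homMk q, ObjectProperty.homMk j, w, InducedCategory.hom_ext hj,
    ?_, hf, hs, hqc, hkq⟩
  refine ⟨fun {T} a b hab => ?_⟩
  obtain ⟨T₁, c₁, a', _, _, _, _, ha'⟩ := GrpOver.exists_lift (un q) a
  obtain ⟨T₂, c₂, b', _, _, _, _, hb'⟩ := GrpOver.exists_lift (un q) (c₁ ≫ b)
  refine GrpOver.cancel_left c₁ (GrpOver.cancel_left c₂ ?_)
  have e : un q ≫ un j = un f.hom := congrArg un hj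
  have h0 : ((c₂ ≫ a') * b'⁻¹) ≫ un f.hom = 1 := by
    rw [MonObj.mul_comp, GrpObj.inv_comp, mul_inv_eq_one, ← e, Category.assoc, reassoc_of% ha',
      reassoc_of% hb', show a ≫ un j = b ≫ un j from hab]
  obtain ⟨n, hn⟩ := GrpOver.kernel_factor hk _ h0
  have h1 : ((c₂ ≫ a') * b'⁻¹) ≫ un q = 1 := by rw [← hn]; exact GrpOver.comp_kernel_comp hkq n
  rw [MonObj.mul_comp, GrpObj.inv_comp, mul_inv_eq_one, Category.assoc, ha', hb'] at h1
  exact h1

lemma exists_cokernelCofork (hP : IsGood P) {A B : P.FullSubcategory} (f : A ⟶ B) :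
    ∃ (Q : P.FullSubcategory) (π : B ⟶ Q) (w : f ≫ π = 0), Nonempty (IsColimit (CokernelCofork.ofπ π w)) := by
  obtain ⟨K, k, Q₁, q, j, -, hqj, hjm, hf, hs, hqc, -⟩ := exists_image hP f
  obtain ⟨Q, π, hQ, hf', hs', hqc', hkπ⟩ := hP.quot Q₁.obj B.obj j.hom Q₁.property B.property hjm
  let π' : B ⟶ ⟨Q, hQ⟩ := ObjectProperty.homMk π
  have w : f ≫ π' = 0 := by
    refine (hom_zero_iff _).2 ?_
    show un f.hom ≫ un π = 1
    rw [← hqj]
    exact GrpOver.comp_kernel_comp hkπ (un q.hom)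
  choose l hl using fun (W : P.FullSubcategory) (g : B ⟶ W) (hg : f ≫ g = 0) =>
    exists_desc (i := j.hom) hf' hs' hqc' hkπ g.hom (by
      have h : un q.hom ≫ un j.hom ≫ un g.hom = 1 := by
        rw [← Category.assoc, show un q.hom ≫ un j.hom = un f.hom by rw [← hqj]; rfl]
        exact (hom_zero_iff _).1 hg
      have : EffectiveEpi (un q.hom).left := effectiveEpi_of_fpqc _
      exact GrpOver.cancel_left (un q.hom) (h.trans (MonObj.comp_one _).symm))
  exact ⟨⟨Q, hQ⟩, π', w, ⟨CokernelCofork.IsColimit.ofπ π' w (fun {W} g hg => ObjectProperty.homMk (l W g hg))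
    (fun {W} g hg => InducedCategory.hom_ext (hl W g hg))
    fun {W} g hg m hm => InducedCategory.hom_ext (quot_cancel hf' hs' hqc'
      ((congrArg InducedCategory.Hom.hom hm).trans (hl W g hg).symm))⟩⟩

lemma mono_un (hP : IsGood P) {A B : P.FullSubcategory} (f : A ⟶ B) [Mono f] : Mono (un f.hom) := by
  obtain ⟨K, k, w, hk, -⟩ := exists_kernelFork hP f
  have hk1 : un k.hom = 1 := (hom_zero_iff k).1 (Preadditive.mono_iff_cancel_zero f |>.1 ‹_› _ k w)
  refine ⟨fun {T} a b hab => ?_⟩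
  obtain ⟨n, hn⟩ := GrpOver.kernel_factor hk (a * b⁻¹) (by
    rw [MonObj.mul_comp, GrpObj.inv_comp, hab, mul_inv_cancel])
  rw [hk1, MonObj.comp_one] at hn
  exact mul_inv_eq_one.1 hn.symm

theorem isNormalMonoCategory (hP : IsGood P) : IsNormalMonoCategory P.FullSubcategory := by
  refine ⟨fun {A B} f _ => ?_⟩
  have := mono_un hP f
  obtain ⟨Q, q, hQ, hf, hs, hqc, hk⟩ := hP.quot A.obj B.obj f.hom A.property B.property this
  let q' : B ⟶ ⟨Q, hQ⟩ := ObjectProperty.homMk q
  have w : f ≫ q' = 0 := (hom_zero_iff _).2 (GrpOver.kernel_comp hk)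
  choose l hl using fun (W : P.FullSubcategory) (g : W ⟶ B) (hg : g ≫ q' = 0) =>
    exists_lift_kernel hk g.hom ((hom_zero_iff _).1 hg)
  exact ⟨⟨⟨Q, hQ⟩, q', w, KernelFork.IsLimit.ofι f w (fun {W} g hg => ObjectProperty.homMk (l W g hg))
    (fun {W} g hg => InducedCategory.hom_ext (hl W g hg))
    fun {W} g hg m hm => un_inj ((cancel_mono (un f.hom)).1
      ((congrArg (fun x => un (InducedCategory.Hom.hom x)) hm).trans (congrArg un (hl W g hg)).symm))⟩⟩

theorem isNormalEpiCategory (hP : IsGood P) : IsNormalEpiCategory P.FullSubcategory := by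
  refine ⟨fun {A B} f _ => ?_⟩
  obtain ⟨K, k, Q₁, q, j, hkf, hqj, hjm, hf, hs, hqc, hkq⟩ := exists_image hP f
  obtain ⟨Q, π, hQ, hf', hs', hqc', hkπ⟩ := hP.quot Q₁.obj B.obj j.hom Q₁.property B.property hjm
  let π' : B ⟶ ⟨Q, hQ⟩ := ObjectProperty.homMk π
  have hπ : π' = 0 := by
    refine (cancel_epi f).1 ?_
    rw [comp_zero, ← hqj, Category.assoc]
    exact (hom_zero_iff _).2 (by
      show un q.hom ≫ un j.hom ≫ un π = 1
      rw [GrpOver.kernel_comp hkπ, MonObj.comp_one])
  obtain ⟨s, hs₁⟩ := exists_lift_kernel hkπ (𝟙 B.obj) (by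
    show 𝟙 _ ≫ un π = 1
    rw [Category.id_comp]
    exact (hom_zero_iff π').1 hπ)
  let s' : B ⟶ Q₁ := ObjectProperty.homMk s
  have hsj : s' ≫ j = 𝟙 B := InducedCategory.hom_ext hs₁
  have hfs : f ≫ s' = q := by
    refine un_inj ((cancel_mono (un j.hom)).1 ?_)
    calc (un f.hom ≫ un s) ≫ un j.hom = un f.hom ≫ un (s ≫ j.hom) := Category.assoc _ _ _
      _ = un f.hom := by rw [hs₁]; exact Category.comp_id _
      _ = un q.hom ≫ un j.hom := by rw [← hqj]; rfl
  choose l hl using fun (W : P.FullSubcategory) (g : A ⟶ W) (hg : k ≫ g = 0) =>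
    exists_desc (i := k.hom) hf hs hqc hkq g.hom ((hom_zero_iff _).1 hg)
  exact ⟨⟨K, k, hkf, CokernelCofork.IsColimit.ofπ f hkf
    (fun {W} g hg => s' ≫ ObjectProperty.homMk (l W g hg))
    (fun {W} g hg => by
      rw [← Category.assoc, hfs]
      exact InducedCategory.hom_ext (hl W g hg))
    fun {W} g hg m hm => (cancel_epi f).1 (by
      rw [hm, ← Category.assoc, hfs]
      exact (InducedCategory.hom_ext (hl W g hg)).symm)⟩⟩

theorem hasFiniteProducts (hP : IsGood P) : HasFiniteProducts P.FullSubcategory := by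
  have : HasTerminal P.FullSubcategory := by
    let t : P.FullSubcategory := ⟨CommGrp.trivial (Over S), hP.trivial⟩
    have : ∀ X : P.FullSubcategory, Unique (X ⟶ t) := fun X =>
      { default := 0
        uniq := fun f => un_inj (toUnit_unique _ _) }
    exact hasTerminal_of_unique t
  have : ∀ A B : P.FullSubcategory, HasLimit (pair A B) := fun A B => by
    let AB : P.FullSubcategory := ⟨CommGrp.mk (A.obj.X ⊗ B.obj.X), hP.prod _ _ A.property B.property⟩
    let p₁ : AB ⟶ A := ObjectProperty.homMk (mkHom (fst A.obj.X B.obj.X))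
    let p₂ : AB ⟶ B := ObjectProperty.homMk (mkHom (snd A.obj.X B.obj.X))
    have hl : ∀ {W : P.FullSubcategory} (a : W ⟶ A) (b : W ⟶ B),
        ∃ l : W ⟶ AB, l ≫ p₁ = a ∧ l ≫ p₂ = b := by
      intro W a b
      have : IsMonHom (lift (un a.hom) (un b.hom)) := by
        refine ⟨?_, ?_⟩ <;>
          refine CartesianMonoidalCategory.hom_ext _ _ ?_ ?_ <;>
          simp [IsMonHom.one_hom, IsMonHom.mul_hom]
      exact ⟨ObjectProperty.homMk (mkHom (lift (un a.hom) (un b.hom))), un_inj (lift_fst _ _),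
        un_inj (lift_snd _ _)⟩
    choose l h₁ h₂ using @hl
    exact ⟨⟨BinaryFan.mk p₁ p₂, BinaryFan.IsLimit.mk _ (fun {W} a b => l a b) (fun {W} a b => h₁ a b)
      (fun {W} a b => h₂ a b) fun {W} a b m hm₁ hm₂ => un_inj (CartesianMonoidalCategory.hom_ext _ _
        ((congrArg (fun x => un (InducedCategory.Hom.hom x)) hm₁).trans
          (congrArg (fun x => un (InducedCategory.Hom.hom x)) (h₁ a b)).symm)
        ((congrArg (fun x => un (InducedCategory.Hom.hom x)) hm₂).trans
          (congrArg (fun x => un (InducedCategory.Hom.hom x)) (h₂ a b)).symm))⟩⟩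
  have : HasBinaryProducts P.FullSubcategory := hasBinaryProducts_of_hasLimit_pair _
  exact hasFiniteProducts_of_has_binary_and_terminal

/-- The abelian structure. -/
theorem nonempty_abelian (hP : IsGood P) : Nonempty (Abelian P.FullSubcategory) := by
  have hk : HasKernels P.FullSubcategory := ⟨fun f => by
    obtain ⟨K, i, w, -, ⟨h⟩⟩ := exists_kernelFork hP f
    exact ⟨⟨_, h⟩⟩⟩
  have hc : HasCokernels P.FullSubcategory := ⟨fun f => by
    obtain ⟨Q, π, w, ⟨h⟩⟩ := exists_cokernelCofork hP f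
    exact ⟨⟨_, h⟩⟩⟩
  exact ⟨{
    normalMonoOfMono := (isNormalMonoCategory hP).normalMonoOfMono
    normalEpiOfEpi := (isNormalEpiCategory hP).normalEpiOfEpi
    has_finite_products := hasFiniteProducts hP
    has_kernels := hk
    has_cokernels := hc }⟩

end Groth.Agent.GrpSGA.AbelianSub
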