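import Groth.Agent.GrpScheme.IdComponent
import Groth.Agent.FBase.BC2
import Groth.Prelude.Def_SGA3x

/-!
# Fibres of a group scheme and the union of their neutral components
-/

set_option autoImplicit false

universe u

open CategoryTheory MonoidalCategory CartesianMonoidalCategory MonObj GrpObj AlgebraicGeometry Limits
open Groth.Agent.GrpScheme

namespace Groth.Agent.GrpSGA.Fibre

variable {S : Scheme.{u}} (G : Over S)

/-- The fibre at a point, as an object over the residue field. -/
noncomputable abbrev fib (s : S) : Over (Spec (CommRingCat.of (S.residueField s))) :=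
  (Over.pullback (S.fromSpecResidueField s)).obj G

noncomputable instance grpObj_fib [GrpObj G] (s : S) : GrpObj (fib G s) := Functor.grpObjObj

/-- The inclusion of a fibre. -/
noncomputable abbrev fibι (s : S) : (fib G s).left ⟶ G.left :=
  pullback.fst G.hom (S.fromSpecResidueField s)

lemma range_fibι (s : S) : Set.range (fibι G s) = G.hom ⁻¹' {s} :=
  G.hom.range_fiberι s

lemma isEmbedding_fibι (s : S) : Topology.IsEmbedding (fibι G s) :=
  (G.hom.fiberι s).isEmbedding

lemma hom_fibι (s : S) (x : (fib G s).left) : G.hom (fibι G s x) = s :=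
  (range_fibι G s).le ⟨x, rfl⟩

variable [GrpObj G]

lemma fibι_unit (s : S) : fibι G s (IdComponent.e₀ (fib G s)) = η[G].left s := by
  let f := S.fromSpecResidueField s
  have h : η[fib G s].left ≫ fibι G s =
      (Functor.LaxMonoidal.ε (Over.pullback f)).left ≫ pullback.fst (𝟙_ (Over S)).hom f ≫ η[G].left := by
    rw [Functor.obj.η_def, Over.comp_left, Category.assoc]
    exact congrArg _ (pullback.lift_fst _ _ _)
  have key : ∀ p, fibι G s (η[fib G s].left p) = η[G].left s := fun p => by
    have h1 := congr(($h) p)
    simp only [Scheme.Hom.comp_apply] at h1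
    rw [h1]
    congr 1
    have h2 := congr(G.hom $h1)
    rw [hom_fibι, ← Scheme.Hom.comp_apply η[G].left G.hom, Over.w] at h2
    exact h2.symm
  exact key _

lemma neutralSet_inter (s : S) :
    SGA3x.neutralSet G ∩ G.hom ⁻¹' {s} =
      fibι G s '' connectedComponent (IdComponent.e₀ (fib G s)) := by
  have hemb := isEmbedding_fibι G s
  have hcomp : connectedComponentIn (G.hom ⁻¹' {s}) (η[G].left s) =
      fibι G s '' connectedComponent (IdComponent.e₀ (fib G s)) := by
    rw [← range_fibι, ← fibι_unit]
    refine subset_antisymm ?_ ?_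
    · intro x hx
      have hsub := connectedComponentIn_subset (Set.range (fibι G s)) (fibι G s (IdComponent.e₀ (fib G s)))
      obtain ⟨y, rfl⟩ := hsub hx
      refine ⟨y, ?_, rfl⟩
      have hpre : _root_.IsPreconnected (fibι G s ⁻¹' connectedComponentIn (Set.range (fibι G s))
          (fibι G s (IdComponent.e₀ (fib G s)))) := by
        rw [← hemb.isInducing.isPreconnected_image, Set.image_preimage_eq_of_subset hsub]
        exact isPreconnected_connectedComponentIn
      exact hpre.subset_connectedComponent (mem_connectedComponentIn ⟨_, rfl⟩) hx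
    · exact (isPreconnected_connectedComponent.image _
        (fibι G s).continuous.continuousOn).subset_connectedComponentIn
        ⟨_, mem_connectedComponent, rfl⟩ (Set.image_subset_range _ _)
  rw [← hcomp]
  ext x
  constructor
  · rintro ⟨hx, hxs⟩
    obtain ⟨p, hp⟩ := Set.mem_iUnion.mp hx
    have h1' : x ∈ G.hom ⁻¹' {(𝟙_ (Over S)).hom p} := connectedComponentIn_subset _ _ hp
    have h1 : p = G.hom x := h1'.symm
    have h2 : p = s := h1.trans hxs
    subst h2
    exact hp
  · intro hx
    exact ⟨Set.mem_iUnion.mpr ⟨s, hx⟩, connectedComponentIn_subset _ _ hx⟩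

lemma mem_neutralSet_iff (s : S) (x : (fib G s).left) :
    fibι G s x ∈ SGA3x.neutralSet G ↔ x ∈ connectedComponent (IdComponent.e₀ (fib G s)) := by
  have h := congr(fibι G s x ∈ $(neutralSet_inter G s))
  rw [(isEmbedding_fibι G s).injective.mem_set_image] at h
  rw [← h]
  exact ⟨fun hx => ⟨hx, hom_fibι G s x⟩, fun hx => hx.1⟩

omit [GrpObj G] in
lemma exists_mem_fib {x : G.left} {s : S} (h : G.hom x = s) : ∃ y, fibι G s y = x :=
  (range_fibι G s).ge h

end Groth.Agent.GrpSGA.Fibre

namespace Groth.Agent.GrpSGA.Fibre

open Groth.Agent.FBase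

/-- Over a field, the connected component of a rational point has connected preimage in every base
change of fields. -/
theorem isConnected_preimage_component {k K : Type u} [Field k] [Field K] [Algebra k K]
    {P Q : Scheme.{u}} {f : P ⟶ Spec (CommRingCat.of k)} (e : Spec (CommRingCat.of k) ⟶ P)
    (he : e ≫ f = 𝟙 _) {q : Q ⟶ P} {r : Q ⟶ Spec (CommRingCat.of K)}
    (hc : IsPullback q r f (Spec.map (CommRingCat.ofHom (algebraMap k K)))) (x : Spec (CommRingCat.of k)) :
    _root_.IsConnected (q ⁻¹' connectedComponent (e x)) := by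
  have : GeometricallyConnected (𝟙 (Spec (CommRingCat.of k))) := by
    refine ⟨geometrically_iff_of_commRing_of_isClosedUnderIsomorphisms.mpr fun L _ _ ↦ ?_⟩
    exact ((asIso (pullback.snd (𝟙 (Spec (CommRingCat.of k)))
      (Spec.map (CommRingCat.ofHom (algebraMap k L))))).hom.homeomorph.symm.surjective.connectedSpace
      (Homeomorph.continuous _))
  have h := BC2.isConnected_preimage_fst f (𝟙 _) e he (K := K)
    (C := connectedComponent (e x)) isConnected_connectedComponent (by
      rintro _ ⟨y, rfl⟩
      rw [Subsingleton.elim (α := ↥(Spec (CommRingCat.of k))) y x]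
      exact mem_connectedComponent)
  have h' := h.image _ hc.isoPullback.inv.continuous.continuousOn
  convert h' using 1
  ext z
  constructor
  · intro hz
    refine ⟨hc.isoPullback.hom z, ?_, ?_⟩
    · show pullback.fst f _ (hc.isoPullback.hom z) ∈ connectedComponent (e x)
      rwa [← Scheme.Hom.comp_apply, hc.isoPullback_hom_fst]
    · rw [← Scheme.Hom.comp_apply, Iso.hom_inv_id]
      rfl
  · rintro ⟨w, hw, rfl⟩
    rw [Set.mem_preimage, ← Scheme.Hom.comp_apply, hc.isoPullback_inv_fst]
    exact hw

end Groth.Agent.GrpSGA.Fibre
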