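import Groth.Agent.GrpSGA.LocalProp
import Mathlib.AlgebraicGeometry.ZariskisMainTheorem

/-!
# Quasi-finiteness at a point descends along every base change
-/

set_option autoImplicit false

universe u

open CategoryTheory Limits AlgebraicGeometry MorphismProperty

namespace Groth.Agent.GrpSGA.LocalProp

/-- The map of fibres of a cartesian square: a base change along an extension of residue fields. -/
theorem exists_fibre_map {X Y X' Y' : Scheme.{u}} {p : X' ⟶ X} {q : X' ⟶ Y'} {f : X ⟶ Y}
    {g : Y' ⟶ Y} (sq : IsPullback p q f g) (x' : X') :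
    ∃ (φ : Spec (Y'.residueField (q x')) ⟶ Spec (Y.residueField (f (p x'))))
      (k : q.fiber (q x') ⟶ f.fiber (f (p x'))),
      IsPullback k (q.fiberToSpecResidueField (q x')) (f.fiberToSpecResidueField (f (p x'))) φ ∧
        k (q.asFiber x') = f.asFiber (p x') := by
  have hy : f (p x') = g (q x') := by
    rw [← Scheme.Hom.comp_apply, ← Scheme.Hom.comp_apply, sq.w]
  suffices key : ∀ y (z : f.fiber y), y = g (q x') → f.fiberι y z = p x' →
      ∃ (φ : Spec (Y'.residueField (q x')) ⟶ Spec (Y.residueField y))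
        (k : q.fiber (q x') ⟶ f.fiber y),
        IsPullback k (q.fiberToSpecResidueField (q x')) (f.fiberToSpecResidueField y) φ ∧
          k (q.asFiber x') = z from key _ _ hy (f.fiberι_asFiber _)
  rintro _ z rfl hz
  let φ := Spec.map (g.residueFieldMap (q x'))
  have hφ : φ ≫ Y.fromSpecResidueField (g (q x')) = Y'.fromSpecResidueField (q x') ≫ g :=
    Scheme.Hom.SpecMap_residueFieldMap_fromSpecResidueField g _
  let k : q.fiber (q x') ⟶ f.fiber (g (q x')) :=
    pullback.lift (q.fiberι (q x') ≫ p) (q.fiberToSpecResidueField (q x') ≫ φ) (by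
      have h1 : q.fiberι (q x') ≫ q = q.fiberToSpecResidueField (q x') ≫ Y'.fromSpecResidueField (q x') :=
        pullback.condition
      rw [Category.assoc, sq.w, reassoc_of% h1, Category.assoc, hφ])
  have hk : k ≫ f.fiberι (g (q x')) = q.fiberι (q x') ≫ p := pullback.lift_fst _ _ _
  refine ⟨φ, k, ?_, ?_⟩
  · refine IsPullback.of_right ?_ (pullback.lift_snd _ _ _)
      (IsPullback.of_hasPullback f (Y.fromSpecResidueField (g (q x'))))
    rw [hφ]
    exact hk.symm ▸ (IsPullback.of_hasPullback q (Y'.fromSpecResidueField (q x'))).paste_horiz sq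
  · apply (f.fiberι _).isEmbedding.injective
    rw [hz, ← Scheme.Hom.comp_apply, hk, Scheme.Hom.comp_apply, q.fiberι_asFiber]

theorem quasiFiniteAt_of_baseChange {X Y X' Y' : Scheme.{u}} {p : X' ⟶ X} {q : X' ⟶ Y'} {f : X ⟶ Y}
    {g : Y' ⟶ Y} [LocallyOfFiniteType f] (sq : IsPullback p q f g) (x' : X')
    (h : q.QuasiFiniteAt x') : f.QuasiFiniteAt (p x') := by
  have hqlft : LocallyOfFiniteType q := MorphismProperty.of_isPullback sq ‹LocallyOfFiniteType f›
  rw [Scheme.Hom.quasiFiniteAt_iff_isOpen_singleton_asFiber] at h ⊢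
  obtain ⟨φ, k, sqk, hz⟩ := exists_fibre_map sq x'
  have : UniversallyOpen φ := inferInstance
  have : UniversallyOpen k := MorphismProperty.of_isPullback sqk.flip ‹UniversallyOpen φ›
  rw [← hz, ← Set.image_singleton]
  exact k.isOpenMap _ h

/-- Unramifiedness at a point descends along every base change. -/
theorem desc_unramified_any {X Y X' Y' : Scheme.{u}} {p : X' ⟶ X} {q : X' ⟶ Y'} {f : X ⟶ Y}
    {g : Y' ⟶ Y} [LocallyOfFiniteType f] (sq : IsPullback p q f g) (x' : X')
    (h : AtPt @FormallyUnramified q x') : AtPt @FormallyUnramified f (p x') := by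
  obtain ⟨φ, k, sqk, hk⟩ := exists_fibre_map sq x'
  have : LocallyOfFiniteType (f.fiberToSpecResidueField (f (p x'))) :=
    MorphismProperty.pullback_snd _ _ inferInstance
  have h₁ : AtPt @FormallyUnramified (q.fiberToSpecResidueField (q x')) (q.asFiber x') :=
    bc_atPt (IsPullback.of_hasPullback q (Y'.fromSpecResidueField (q x'))) (q.asFiber x')
      ((q.fiberι_asFiber x').symm ▸ h)
  have : Flat φ := inferInstance
  obtain ⟨W, hW, hWP⟩ := desc_unramified_lft sqk (q.asFiber x') (Flat.stalkMap φ _) h₁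
  rw [hk] at hW
  exact (EtStruct.formallyUnramified_nhd_iff f _).mpr
    (UnramFib.stalkMap_formallyUnramified_of_fiber_nhd f _ W hW hWP)

/-- Being locally of finite type and quasi-finite at a point, as a property near the point. -/
abbrev QFinFT : MorphismProperty Scheme.{u} := @LocallyQuasiFinite ⊓ @LocallyOfFiniteType

theorem atPt_qFin_iff {X Y : Scheme.{u}} (f : X ⟶ Y) [LocallyOfFiniteType f] (x : X) :
    AtPt @LocallyQuasiFinite f x ↔ f.QuasiFiniteAt x := by
  constructor
  · rintro ⟨W, hxW, hW⟩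
    have := (W.ι ≫ f).quasiFiniteAt ⟨x, hxW⟩
    rwa [Scheme.Hom.quasiFiniteAt_comp_iff_of_isOpenImmersion] at this
  · intro h
    refine ⟨f.quasiFiniteLocus, h, (Scheme.Hom.quasiFiniteLocus_eq_top_iff (f := f.quasiFiniteLocus.ι ≫ f)).mp ?_⟩
    rw [Scheme.Hom.quasiFiniteLocus_comp]
    exact eq_top_iff.mpr fun z _ => z.2

theorem desc_qFin_lft {X Y X' Y' : Scheme.{u}} {p : X' ⟶ X} {q : X' ⟶ Y'} {f : X ⟶ Y}
    {g : Y' ⟶ Y} [LocallyOfFiniteType f] (sq : IsPullback p q f g) (x' : X')
    (h : AtPt @LocallyQuasiFinite q x') : AtPt @LocallyQuasiFinite f (p x') := by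
  have : LocallyOfFiniteType q := MorphismProperty.of_isPullback sq ‹LocallyOfFiniteType f›
  rw [atPt_qFin_iff] at h ⊢
  exact quasiFiniteAt_of_baseChange sq x' h

instance : IsZariskiLocalAtSource QFinFT.{u} :=
  haveI : IsZariskiLocalAtSource (@LocallyQuasiFinite : MorphismProperty Scheme.{u}) := inferInstance
  haveI : IsZariskiLocalAtSource (@LocallyOfFiniteType : MorphismProperty Scheme.{u}) := inferInstance
  MorphismProperty.IsLocalAtSource.inf (K := Scheme.zariskiPrecoverage) _ _

theorem desc_qFinFT : Desc (AtPt QFinFT.{u}) FlatFP := by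
  intro X Y X' Y' p q f g sq x' hg hq
  obtain ⟨U, hxU, hU⟩ := desc_lft sq x' hg (hq.mono inf_le_right)
  obtain ⟨W, hxW, hW⟩ := hq
  have := hU
  have key := desc_qFin_lft ((isPullback_morphismRestrict p U).paste_vert sq) ⟨x', hxU⟩
    ⟨(p ⁻¹ᵁ U).ι ⁻¹ᵁ W, hxW, by
      rw [← morphismRestrict_ι_assoc]
      exact IsZariskiLocalAtSource.comp hW.1 _⟩
  have e : ((p ∣_ U) ⟨x', hxU⟩).1 = p x' := by rw [morphismRestrict_base]; rfl
  obtain ⟨V, hV, hVq⟩ := key
  have : AtPt QFinFT f ((p ∣_ U) ⟨x', hxU⟩).1 :=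
    AtPt.of_restrict ⟨V, hV, hVq, inferInstance⟩
  rwa [e] at this

end Groth.Agent.GrpSGA.LocalProp
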