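import Groth.Agent.GrpSGA.Translate
import Groth.Agent.GrpSGA.LocalQF
import Groth.Agent.GrpSGA.Fibre
import Groth.Agent.GrpScheme.FibreFlat
import Groth.Agent.FlatOpen.Scheme

/-!
# Fibrewise criteria for homomorphisms of group schemes
-/

set_option autoImplicit false

universe u

open CategoryTheory MonoidalCategory CartesianMonoidalCategory MonObj GrpObj AlgebraicGeometry Limits
open Groth.Agent.GrpScheme Groth.Agent.GrpSGA.LocalProp

namespace Groth.Agent.GrpSGA.FibreCrit

open Fibre

variable {S : Scheme.{u}} {G H : Over S} (u : G ⟶ H) (s : S)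

/-- The map of fibres. -/
noncomputable abbrev fibMap : fib G s ⟶ fib H s :=
  (Over.pullback (S.fromSpecResidueField s)).map u

lemma isPullback_fibMap : IsPullback (fibι G s) (fibMap u s).left u.left (fibι H s) := by
  refine IsPullback.of_bot ?_ (pullback.lift_fst _ _ _).symm (IsPullback.of_hasPullback H.hom _)
  rw [Over.w, show (fibMap u s).left ≫ pullback.snd H.hom _ = pullback.snd G.hom _ from
    pullback.lift_snd _ _ _]
  exact IsPullback.of_hasPullback _ _

section Pointwise

variable {X Y : Scheme.{u}} (f : X ⟶ Y) (g : Y ⟶ S)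

/-- Being unramified near a point of the map of fibres gives it for the morphism. -/
theorem unramifiedAt_of_fibre [LocallyOfFiniteType f] (x : X) (x' : (f ≫ g).fiber (g (f x)))
    (hx' : (f ≫ g).fiberι (g (f x)) x' = x)
    (h : AtPt @FormallyUnramified (MoreMor.fiberMap f g (g (f x))) x') :
    AtPt @FormallyUnramified f x := by
  obtain ⟨k, l, sq, hk⟩ := FlatOpen.FibreMapAt.exists_fibre_square f g x x' hx'
  obtain ⟨W, hW, hWP⟩ := bc_atPt sq (f.asFiber x) (hk.symm ▸ h)
  exact (EtStruct.formallyUnramified_nhd_iff f x).mpr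
    (UnramFib.stalkMap_formallyUnramified_of_fiber_nhd f x W hW hWP)

/-- Being quasi-finite near a point of the map of fibres gives it for the morphism. -/
theorem qFinAt_of_fibre [LocallyOfFiniteType f] (x : X) (x' : (f ≫ g).fiber (g (f x)))
    (hx' : (f ≫ g).fiberι (g (f x)) x' = x)
    (h : AtPt @LocallyQuasiFinite (MoreMor.fiberMap f g (g (f x))) x') :
    AtPt @LocallyQuasiFinite f x := by
  obtain ⟨k, l, sq, hk⟩ := FlatOpen.FibreMapAt.exists_fibre_square f g x x' hx'
  obtain ⟨W, hW, hWP⟩ := bc_atPt sq (f.asFiber x) (hk.symm ▸ h)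
  rw [atPt_qFin_iff, Scheme.Hom.quasiFiniteAt_iff_isOpen_singleton_asFiber]
  let w : (W : Scheme.{u}) := ⟨f.asFiber x, hW⟩
  have hd := (W.ι ≫ f.fiberToSpecResidueField (f x)).isDiscrete_preimage_singleton
    ((W.ι ≫ f.fiberToSpecResidueField (f x)) w)
  have huniv : (W.ι ≫ f.fiberToSpecResidueField (f x)) ⁻¹'
      {(W.ι ≫ f.fiberToSpecResidueField (f x)) w} = Set.univ :=
    Set.eq_univ_of_forall fun v => Subsingleton.elim (α := ↥(Spec (Y.residueField (f x)))) _ _
  rw [huniv, isDiscrete_univ_iff] at hd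
  have := W.ι.isOpenEmbedding.isOpenMap {w} (isOpen_discrete _)
  rwa [Set.image_singleton] at this

theorem flatAt_of_fibre [LocallyOfFinitePresentation (f ≫ g)] [LocallyOfFiniteType g] (x : X)
    (hflat : ((f ≫ g).stalkMap x).hom.Flat) (x' : (f ≫ g).fiber (g (f x)))
    (hx' : (f ≫ g).fiberι (g (f x)) x' = x)
    (h : flatAt (MoreMor.fiberMap f g (g (f x))) x') : flatAt f x := by
  refine (GrpScheme.FlatFib.flat_of_fibre f g x hflat ?_).2
  obtain rfl : (f ≫ g).asFiber x = x' := ((f ≫ g).fiberι (g (f x))).isEmbedding.injective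
    (((f ≫ g).fiberι_asFiber x).trans hx'.symm)
  exact h

end Pointwise

/-- Transfer of a pointwise criterion to the maps of fibres of a morphism over the base. -/
theorem of_fibre_aux (Q : PtProp.{u}) {X Y : Scheme.{u}} (f : X ⟶ Y) (g : Y ⟶ S)
    (Hyp : ∀ {h : X ⟶ S}, f ≫ g = h → X → Prop)
    (crit : ∀ (x : X) (x' : (f ≫ g).fiber (g (f x))), (f ≫ g).fiberι (g (f x)) x' = x →
      Hyp rfl x → Q (MoreMor.fiberMap f g (g (f x))) x' → Q f x) :
    ∀ (h : X ⟶ S) (e : f ≫ g = h)
      (w : (pullback.fst h (S.fromSpecResidueField s) ≫ f) ≫ g =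
        pullback.snd h (S.fromSpecResidueField s) ≫ S.fromSpecResidueField s)
      (y : ↥(pullback h (S.fromSpecResidueField s))),
      Hyp e (pullback.fst h (S.fromSpecResidueField s) y) →
      Q (pullback.lift (pullback.fst h (S.fromSpecResidueField s) ≫ f)
        (pullback.snd h (S.fromSpecResidueField s)) w) y →
      Q f (pullback.fst h (S.fromSpecResidueField s) y) := by
  rintro _ rfl w y hy hQ
  have hs : g (f (pullback.fst (f ≫ g) (S.fromSpecResidueField s) y)) = s := by
    rw [← Scheme.Hom.comp_apply f g]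
    exact ((f ≫ g).range_fiberι s).le ⟨y, rfl⟩
  have key : ∀ (x : X) (t : S) (y' : (f ≫ g).fiber t), t = g (f x) → (f ≫ g).fiberι t y' = x →
      Hyp rfl x → Q (MoreMor.fiberMap f g t) y' → Q f x := by
    rintro x _ y' rfl hx' hh hq
    exact crit x y' hx' hh hq
  exact key _ s y hs.symm rfl hy hQ

variable {s} (y : (fib G s).left)

theorem fib_flatAt [LocallyOfFinitePresentation G.hom] [Flat G.hom] [LocallyOfFiniteType H.hom]
    (h : flatAt (fibMap u s).left y) : flatAt u.left (fibι G s y) :=
  of_fibre_aux s flatAt u.left H.hom (fun {_} _ _ => True)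
    (fun x x' hx' _ hq =>
      have : LocallyOfFinitePresentation (u.left ≫ H.hom) := by rw [Over.w]; infer_instance
      have : Flat (u.left ≫ H.hom) := by rw [Over.w]; infer_instance
      flatAt_of_fibre u.left H.hom x (Flat.stalkMap _ _) x' hx' hq)
    G.hom (Over.w u) _ y trivial h

theorem fib_smoothAt [LocallyOfFinitePresentation G.hom] [Flat G.hom] [LocallyOfFiniteType H.hom]
    (h : AtPt @Smooth (fibMap u s).left y) : AtPt @Smooth u.left (fibι G s y) :=
  of_fibre_aux s (AtPt @Smooth) u.left H.hom (fun {_} _ _ => True)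
    (fun x x' hx' _ hq =>
      have : LocallyOfFinitePresentation (u.left ≫ H.hom) := by rw [Over.w]; infer_instance
      have : Flat (u.left ≫ H.hom) := by rw [Over.w]; infer_instance
      (FlatOpen.FibreMapAt.smoothAt_iff u.left H.hom x (Flat.stalkMap _ _) x' hx').mpr hq)
    G.hom (Over.w u) _ y trivial h

theorem fib_etaleAt [LocallyOfFinitePresentation G.hom] [Flat G.hom] [LocallyOfFiniteType H.hom]
    (h : AtPt @Etale (fibMap u s).left y) : AtPt @Etale u.left (fibι G s y) :=
  of_fibre_aux s (AtPt @Etale) u.left H.hom (fun {_} _ _ => True)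
    (fun x x' hx' _ hq =>
      have : LocallyOfFinitePresentation (u.left ≫ H.hom) := by rw [Over.w]; infer_instance
      have : Flat (u.left ≫ H.hom) := by rw [Over.w]; infer_instance
      (FlatOpen.FibreMapAt.etaleAt_iff u.left H.hom x (Flat.stalkMap _ _) x' hx').mpr hq)
    G.hom (Over.w u) _ y trivial h

theorem fib_unramFPAt [LocallyOfFinitePresentation u.left]
    (h : AtPt UnramFP (fibMap u s).left y) : AtPt UnramFP u.left (fibι G s y) := by
  obtain ⟨W, hW, hP⟩ := of_fibre_aux s (AtPt @FormallyUnramified) u.left H.hom (fun {_} _ _ => True)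
    (fun x x' hx' _ hq => unramifiedAt_of_fibre u.left H.hom x x' hx' hq)
    G.hom (Over.w u) _ y trivial (AtPt.mono inf_le_left h)
  exact ⟨W, hW, hP, inferInstance⟩

theorem fib_qFinFTAt [LocallyOfFiniteType u.left]
    (h : AtPt QFinFT (fibMap u s).left y) : AtPt QFinFT u.left (fibι G s y) := by
  obtain ⟨W, hW, hP⟩ := of_fibre_aux s (AtPt @LocallyQuasiFinite) u.left H.hom (fun {_} _ _ => True)
    (fun x x' hx' _ hq => qFinAt_of_fibre u.left H.hom x x' hx' hq)
    G.hom (Over.w u) _ y trivial (AtPt.mono inf_le_left h)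
  exact ⟨W, hW, hP, inferInstance⟩

section Locus

variable [GrpObj G] [GrpObj H] [IsMonHom u]

/-- A property which descends along flat base changes and is detected on the fibres defines an open
set of points of the base, whose inverse image is the set of points near which it holds. -/
theorem locus_eq {Q : PtProp.{u}} {P' : MorphismProperty Scheme.{u}} (hbc : BC Q)
    (hdesc : Desc Q FlatFP) (hG : ∀ s : S, LocallyOfFiniteType (G.hom.fiberToSpecResidueField s))
    (hfib : ∀ (s : S) (y : (fib G s).left), Q (fibMap u s).left y → Q u.left (fibι G s y))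
    (hP : ∀ s : S, P' (fibMap u s).left ↔ ∀ y, Q (fibMap u s).left y)
    (hopen : IsOpen {x : G.left | Q u.left x}) :
    IsOpen {s : S | P' (fibMap u s).left} ∧
      {x : G.left | Q u.left x} = G.hom ⁻¹' {s : S | P' (fibMap u s).left} := by
  have key : ∀ (s : S) (y : (fib G s).left), P' (fibMap u s).left ↔ Q u.left (fibι G s y) := by
    intro s y
    have : LocallyOfFiniteType (fib G s).hom := hG s
    refine ⟨fun h => hfib s y ((hP s).mp h y), fun h => (hP s).mpr fun z => ?_⟩
    exact (Translate.hom_iff_of_same_fibre hbc hdesc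
      (fun _ => atPt_of_mem _ ⟨inferInstance, inferInstance⟩ _) (fibMap u s)
      (Subsingleton.elim (α := ↥(Spec (CommRingCat.of (S.residueField s)))) _ _)).mp
        (hbc (isPullback_fibMap u s) y h)
  have heq : {x : G.left | Q u.left x} = G.hom ⁻¹' {s : S | P' (fibMap u s).left} := by
    ext x
    obtain ⟨y, hy⟩ := exists_mem_fib G (x := x) (s := G.hom x) rfl
    rw [Set.mem_preimage, Set.mem_setOf_eq, Set.mem_setOf_eq, key _ y, hy]
  refine ⟨?_, heq⟩
  have : {s : S | P' (fibMap u s).left} = η[G].left ⁻¹' {x : G.left | Q u.left x} := by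
    rw [heq, ← Set.preimage_comp, ← TopCat.coe_comp, ← Scheme.Hom.comp_base, Over.w]
    rfl
  rw [this]
  exact hopen.preimage η[G].left.continuous

theorem isOpen_setOf_atPt (P : MorphismProperty Scheme.{u}) {X Y : Scheme.{u}} (f : X ⟶ Y) :
    IsOpen {x : X | AtPt P f x} :=
  isOpen_iff_forall_mem_open.mpr fun _ ⟨W, hx, hW⟩ => ⟨W, fun _ hz => ⟨W, hz, hW⟩, W.2, hx⟩

lemma mem_iff_forall {P : MorphismProperty Scheme.{u}} [IsZariskiLocalAtSource P] {X Y : Scheme.{u}}
    (f : X ⟶ Y) : P f ↔ ∀ x, AtPt P f x :=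
  ⟨fun h x => atPt_of_mem f h x, of_forall_atPt f⟩

end Locus

end Groth.Agent.GrpSGA.FibreCrit
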