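import Groth.Agent.FlatMor.Thickening
import Groth.Agent.SchPoints.Basic
import Mathlib.RingTheory.Artinian.Ring
import Mathlib.AlgebraicGeometry.Noetherian

/-!
# Schemes over a local Artinian ring and their reduction to the residue field
-/

set_option autoImplicit false

universe u

open CategoryTheory Limits AlgebraicGeometry

namespace Groth.Agent.GrpSGA.ArtThick

/-- The closed point of a local ring. -/
noncomputable abbrev closedPt (A : Type u) [CommRing A] [IsLocalRing A] :
    Spec (CommRingCat.of (IsLocalRing.ResidueField A)) ⟶ Spec (CommRingCat.of A) :=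
  Spec.map (CommRingCat.ofHom (IsLocalRing.residue A))

section

variable (A : Type u) [CommRing A] [IsArtinianRing A] [IsLocalRing A]

instance : Subsingleton ↥(Spec (CommRingCat.of A)) :=
  inferInstanceAs (Subsingleton (PrimeSpectrum A))

instance : IsClosedImmersion (closedPt A) :=
  IsClosedImmersion.spec_of_surjective _ IsLocalRing.residue_surjective

instance : Surjective (closedPt A) :=
  ⟨fun x => ⟨IsLocalRing.closedPoint _, Subsingleton.elim _ _⟩⟩

lemma isNilpotent_ker_closedPt (U : (Spec (CommRingCat.of A)).affineOpens) :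
    IsNilpotent ((closedPt A).ker.ideal U) := by
  have : IsLocallyNoetherian (Spec (CommRingCat.of A)) := inferInstance
  have : IsNoetherianRing Γ(Spec (CommRingCat.of A), U.1) := IsLocallyNoetherian.component_noetherian U
  obtain ⟨n, hn⟩ := IsNoetherianRing.isNilpotent_nilradical Γ(Spec (CommRingCat.of A), U.1)
  refine ⟨n, eq_bot_iff.mpr ?_⟩
  rw [← Ideal.zero_eq_bot, ← hn, Scheme.Hom.ker_apply]
  exact Ideal.pow_right_mono (Thick.Unram.ker_app_le_nilradical _ U.2) n

end

/-- Nilpotence of the ideal of a closed immersion is stable under base change. -/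
theorem isNilpotent_ker_of_isPullback {Y Y₀ X X₀ : Scheme.{u}} {F : Y ⟶ X} {F₀ : Y₀ ⟶ X₀}
    {i : Y₀ ⟶ Y} {j : X₀ ⟶ X} [IsClosedImmersion j]
    (hn : ∀ U : X.affineOpens, IsNilpotent (j.ker.ideal U)) (hc : IsPullback i F₀ F j)
    (V : Y.affineOpens) : IsNilpotent (i.ker.ideal V) := by
  classical
  have : IsClosedImmersion i := MorphismProperty.of_isPullback hc.flip ‹IsClosedImmersion j›
  -- cover `V` by basic opens lying over affine opens of `X`
  have key : ∀ y : V.1, ∃ r : Γ(Y, V.1), y.1 ∈ Y.basicOpen r ∧ ∃ U : X.affineOpens,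
      Y.basicOpen r ≤ F ⁻¹ᵁ U.1 := fun y => by
    obtain ⟨U, hU, hyU, -⟩ :=
      exists_isAffineOpen_mem_and_subset (U := (⊤ : X.Opens)) (x := F y.1) trivial
    obtain ⟨r, hr, hyr⟩ := V.2.exists_basicOpen_le (V := F ⁻¹ᵁ U) ⟨y.1, hyU⟩ y.2
    exact ⟨r, hyr, ⟨U, hU⟩, hr⟩
  choose r hr U hU using key
  have hloc : ∀ y, ∃ n : ℕ, (i.ker.ideal V ^ n).map
      (Y.presheaf.map (homOfLE (Y.basicOpen_le (r y))).op).hom = ⊥ := fun y => by
    obtain ⟨h', h⟩ := Thick.Unram.isPushout_appLE hc (U y).2 (V.2.basicOpen (r y)) (hU y)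
    obtain ⟨-, hk⟩ := Thick.Ring.pushout_surjection h (Thick.Unram.app_surjective j (U y).2)
    obtain ⟨n, hn⟩ := hn (U y)
    refine ⟨n, ?_⟩
    rw [Scheme.Hom.ker_apply] at hn
    have e : i.ker.ideal (Y.affineBasicOpen (r y)) ^ n = ⊥ := by
      rw [Scheme.Hom.ker_apply]
      erw [hk]
      refine (Ideal.map_pow _ _ _).symm.trans ?_
      rw [hn, Ideal.zero_eq_bot, Ideal.map_bot]
      rfl
    rw [Ideal.map_pow]
    rw [← i.ker.map_ideal_basicOpen V (r y)] at e
    exact e
  choose n hn' using hloc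
  obtain ⟨s, hs⟩ := V.2.isCompact.elim_finite_subcover (fun y : V.1 => (Y.basicOpen (r y) : Set Y))
    (fun y => (Y.basicOpen (r y)).2) (fun y hy => Set.mem_iUnion.mpr ⟨⟨y, hy⟩, hr ⟨y, hy⟩⟩)
  refine ⟨s.sup n, eq_bot_iff.mpr fun x hx => ?_⟩
  refine Y.sheaf.eq_of_locally_eq' (fun y : s => Y.basicOpen (r y.1)) V.1
    (fun y => homOfLE (Y.basicOpen_le _)) (fun z hz => ?_) x 0 fun y => ?_
  · obtain ⟨y, hy, hzy⟩ := Set.mem_iUnion₂.mp (hs hz)
    exact TopologicalSpace.Opens.mem_iSup.mpr ⟨⟨y, hy⟩, hzy⟩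
  · have h1 := Ideal.mem_map_of_mem (Y.presheaf.map (homOfLE (Y.basicOpen_le (r y.1))).op).hom
      (Ideal.pow_le_pow_right (Finset.le_sup y.2) hx : x ∈ i.ker.ideal V ^ n y.1)
    rw [hn' y.1, Ideal.mem_bot] at h1
    exact h1.trans (map_zero _).symm

/-- Immersions are detected after a thickening with locally nilpotent ideal. -/
theorem isImmersion_of_isPullback {Y Y₀ X X₀ : Scheme.{u}} {F : Y ⟶ X} {F₀ : Y₀ ⟶ X₀}
    {i : Y₀ ⟶ Y} {j : X₀ ⟶ X} [IsClosedImmersion j] [Surjective j]
    (hn : ∀ U : X.affineOpens, IsNilpotent (j.ker.ideal U))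
    (hc : IsPullback i F₀ F j) [IsImmersion F₀] :
    IsImmersion F ∧ (IsClosedImmersion F₀ → IsClosedImmersion F) := by
  have : IsClosedImmersion i := MorphismProperty.of_isPullback hc.flip ‹IsClosedImmersion j›
  have : Surjective i := MorphismProperty.of_isPullback hc.flip ‹Surjective j›
  have : LocallyOfFiniteType F := FlatMor.Thickening.locallyOfFiniteType_of_isPullback hn hc
  have : Mono F := Thick.Unram.mono_of_locallyOfFiniteType hc
  have hjo : ∀ O : Set X₀, IsOpen O → IsOpen (j '' O) := fun O hO =>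
    (j.isClosedEmbedding.isEmbedding.toHomeomorphOfSurjective j.surjective).isOpenMap O hO
  refine ⟨?_, fun _ => Thick.Unram.isClosedImmersion_of_mono i j F₀ F hc.w⟩
  let W : X.Opens := ⟨j '' (F₀.coborderRange : Set X₀), hjo _ F₀.coborderRange.2⟩
  have hFW : Set.range F ⊆ Set.range W.ι := by
    rintro _ ⟨y, rfl⟩
    obtain ⟨y₀, rfl⟩ := i.surjective y
    rw [Scheme.Opens.range_ι, ← Scheme.Hom.comp_apply, hc.w, Scheme.Hom.comp_apply]
    exact ⟨_, subset_coborder ⟨y₀, rfl⟩, rfl⟩
  have hW : j ⁻¹ᵁ W = F₀.coborderRange :=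
    TopologicalSpace.Opens.ext (Set.preimage_image_eq _ j.isClosedEmbedding.injective)
  let F' := IsOpenImmersion.lift W.ι F hFW
  have hF₀ : Set.range F₀ ⊆ Set.range (j ⁻¹ᵁ W).ι := by
    rw [Scheme.Opens.range_ι, hW]
    exact subset_coborder
  let F₀' := IsOpenImmersion.lift (j ⁻¹ᵁ W).ι F₀ hF₀
  have hc' : IsPullback i F₀' F' (j ∣_ W) := by
    refine IsPullback.of_bot ?_ ?_ (isPullback_morphismRestrict j W)
    · rw [IsOpenImmersion.lift_fac, IsOpenImmersion.lift_fac]
      exact hc
    · rw [← cancel_mono W.ι]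
      simp only [Category.assoc, morphismRestrict_ι, IsOpenImmersion.lift_fac, F', F₀']
      rw [IsOpenImmersion.lift_fac_assoc]
      exact hc.w
  have : IsClosedImmersion F₀' := by
    have : IsImmersion (F₀' ≫ (j ⁻¹ᵁ W).ι) := by rw [IsOpenImmersion.lift_fac]; infer_instance
    have : IsImmersion F₀' := IsImmersion.of_comp F₀' (j ⁻¹ᵁ W).ι
    refine IsClosedImmersion.of_isPreimmersion _ ?_
    have e : Set.range F₀' = (j ⁻¹ᵁ W).ι ⁻¹' Set.range F₀ := by
      rw [← IsOpenImmersion.lift_fac (j ⁻¹ᵁ W).ι F₀ hF₀, Scheme.Hom.comp_base, TopCat.coe_comp,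
        Set.range_comp, Set.preimage_image_eq _ (j ⁻¹ᵁ W).ι.isOpenEmbedding.injective]
    rw [e]
    have h1 := isClosed_preimage_val_coborder (s := Set.range F₀)
    have e2 : ∀ (U : X₀.Opens), (U : Set X₀) = coborder (Set.range F₀) →
        IsClosed (U.ι ⁻¹' Set.range F₀) := by
      intro U hU
      rw [← hU] at h1
      exact h1
    exact e2 _ (congrArg SetLike.coe hW)
  have : LocallyOfFiniteType (F' ≫ W.ι) := by rw [IsOpenImmersion.lift_fac]; infer_instance
  have : LocallyOfFiniteType F' := locallyOfFiniteType_of_comp F' W.ι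
  have : Mono F' := mono_of_mono_fac (IsOpenImmersion.lift_fac W.ι F hFW)
  have : IsClosedImmersion (j ∣_ W) := IsZariskiLocalAtTarget.restrict ‹_› W
  have : Surjective (j ∣_ W) := IsZariskiLocalAtTarget.restrict ‹_› W
  have := Thick.Unram.isClosedImmersion_of_mono i (j ∣_ W) F₀' F' hc'.w
  rw [← IsOpenImmersion.lift_fac W.ι F hFW]
  infer_instance

/-- Over a local Artinian ring the projections of a product are generalizing. -/
theorem generalizingMap_fst {A : Type u} [CommRing A] [IsArtinianRing A] [IsLocalRing A]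
    {X Y : Scheme.{u}} (f : X ⟶ Spec (CommRingCat.of A)) (g : Y ⟶ Spec (CommRingCat.of A)) :
    GeneralizingMap (pullback.fst f g) := by
  intro z x hx
  let q := pullback.fst f (closedPt A)
  obtain ⟨x₀, rfl⟩ := q.surjective x
  obtain ⟨z₀, hz₀⟩ := q.surjective (pullback.fst f g z)
  rw [← hz₀] at hx
  have hx' : x₀ ⤳ z₀ := q.isClosedEmbedding.isEmbedding.isInducing.specializes_iff.1 hx
  obtain ⟨w, hw₁, hw₂⟩ := Scheme.Pullback.exists_preimage_pullback (f := q) (g := pullback.fst f g) z₀ z hz₀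
  have hflat : ∀ h : pullback f (closedPt A) ⟶ Spec (CommRingCat.of A),
      h = pullback.snd f (closedPt A) ≫ closedPt A → Flat (pullback.fst h g) := by
    rintro h rfl
    rw [← MorphismProperty.cancel_left_of_respectsIso @Flat
      (pullbackRightPullbackFstIso (closedPt A) g (pullback.snd f (closedPt A))).hom,
      pullbackRightPullbackFstIso_hom_fst]
    infer_instance
  have : Flat (pullback.fst q (pullback.fst f g)) := by
    have := hflat (q ≫ f) pullback.condition
    rw [← pullbackRightPullbackFstIso_hom_fst f g q]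
    infer_instance
  obtain ⟨w', hw', e⟩ := Flat.generalizingMap (pullback.fst q (pullback.fst f g)) (hw₁ ▸ hx')
  refine ⟨pullback.snd q (pullback.fst f g) w',
    hw₂ ▸ hw'.map (pullback.snd q (pullback.fst f g)).continuous, ?_⟩
  rw [← Scheme.Hom.comp_apply, ← pullback.condition, Scheme.Hom.comp_apply, e]

/-- A base change of a quasi-compact dominant morphism along a generalizing morphism is dominant. -/
theorem denseRange_of_isPullback {P X' Q X : Scheme.{u}} {p : P ⟶ X'} {f' : P ⟶ Q} {f : X' ⟶ X}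
    {g : Q ⟶ X} (hc : IsPullback p f' f g) [QuasiCompact f] (hg : GeneralizingMap g)
    (hf : DenseRange f) : DenseRange f' := by
  intro y
  obtain ⟨x, hx⟩ := SchPoints.exists_specializes_of_mem_closure_range f (y := g y) (hf (g y))
  obtain ⟨y₁, hy₁, e⟩ := hg hx
  obtain ⟨w, -, hw⟩ := Scheme.exists_preimage_of_isPullback hc x y₁ e.symm
  rw [← hw] at hy₁
  exact hy₁.mem_closed isClosed_closure (subset_closure ⟨w, rfl⟩)

end Groth.Agent.GrpSGA.ArtThick
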