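import Groth.Agent.GrpScheme.IdSubgroup
import Groth.Agent.GrpScheme.Dimension
import Groth.Agent.SchPoints.Basic
import Groth.Agent.FBase.BC

/-!
# Components of group schemes over a field
-/

set_option autoImplicit false

universe u

open CategoryTheory MonoidalCategory CartesianMonoidalCategory MonObj GrpObj AlgebraicGeometry Limits
open Groth.Agent.GrpScheme

namespace Groth.Agent.GrpSGA.FieldComp

variable {K : Type u} [Field K] (G : Over (Spec (CommRingCat.of K))) [GrpObj G]

/-- Conjugates of points of the neutral component lie in it. -/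
theorem conj_mem {T : Over (Spec (CommRingCat.of K))} (g n : T ⟶ G)
    (hn : Set.range n.left ⊆ connectedComponent (IdComponent.e₀ G)) :
    Set.range (g * n * g⁻¹).left ⊆ connectedComponent (IdComponent.e₀ G) := by
  rintro _ ⟨t, rfl⟩
  let p := Points.pointHom T t
  obtain ⟨T₂, ⟨t₂⟩, π, h, eh⟩ := Points.exists_lift (IdSubgroup.incl G) (p ≫ n) fun s => by
    rw [Points.comp_apply, IdSubgroup.range_incl]
    exact hn ⟨_, rfl⟩
  let T₃ := Points.pointObj T₂ t₂
  let p₃ := Points.pointHom T₂ t₂
  let a : T₃ ⟶ G := p₃ ≫ π ≫ p ≫ g
  let M : T₃ ⊗ IdSubgroup.G₀ G ⟶ G :=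
    (fst _ _ ≫ a) * (snd _ _ ≫ IdSubgroup.incl G) * (fst _ _ ≫ a)⁻¹
  have := IdComponent.irreducibleSpace_of_subsingleton (T := T₃.left)
  have : GeometricallyConnected (IdSubgroup.G₀ G).hom :=
    FBase.BC.geometricallyConnected_of_geometricallyIrreducible _
  have : ConnectedSpace (T₃ ⊗ IdSubgroup.G₀ G).left :=
    inferInstanceAs (ConnectedSpace ↥(pullback T₃.hom (IdSubgroup.G₀ G).hom))
  obtain ⟨o, ho⟩ := IdSubgroup.exists_one G
  obtain ⟨t₃⟩ := (inferInstance : Nonempty T₃.left)
  have e1 : lift (𝟙 T₃) (toUnit T₃ ≫ o) ≫ M = 1 := by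
    simp only [M, MonObj.comp_mul, GrpObj.comp_inv, lift_fst_assoc, lift_snd_assoc, Category.assoc,
      Category.id_comp, ho, ← Hom.one_def, _root_.mul_one, mul_inv_cancel]
  have he : IdComponent.e₀ G ∈ Set.range M.left := by
    refine ⟨(lift (𝟙 T₃) (toUnit T₃ ≫ o)).left t₃, ?_⟩
    rw [← Points.comp_apply, e1, Hom.one_def, Points.comp_apply]
    exact congrArg _ (Subsingleton.elim (α := ↥(Spec (CommRingCat.of K))) _ _)
  have e2 : lift (𝟙 T₃) (p₃ ≫ h) ≫ M = p₃ ≫ π ≫ p ≫ (g * n * g⁻¹) := by
    simp only [M, a, MonObj.comp_mul, GrpObj.comp_inv, lift_fst_assoc, lift_snd_assoc, Category.assoc,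
      Category.id_comp, eh]
  have hv : (g * n * g⁻¹).left t ∈ Set.range M.left := by
    refine ⟨(lift (𝟙 T₃) (p₃ ≫ h)).left t₃, ?_⟩
    rw [← Points.comp_apply, e2, Points.comp_apply, Points.comp_apply, Points.comp_apply]
    exact congrArg _ (Points.pointHom_apply T t _)
  exact (isPreconnected_range M.left.continuous).subset_connectedComponent he hv

variable [LocallyOfFiniteType G.hom]

/-- The connected components are the irreducible components, and they are open. -/
theorem connectedComponent_eq (g : G.left) :
    connectedComponent g = irreducibleComponent g ∧ IsOpen (irreducibleComponent g) := by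
  have : IsLocallyNoetherian G.left := LocallyOfFiniteType.isLocallyNoetherian G.hom
  have hT : ∀ x : G.left, ∃ U ∈ nhds x, TopologicalSpace.NoetherianSpace U :=
    SchPoints.exists_noetherian_nhd
  let S : Set (Set G.left) := irreducibleComponents (G.left : Type u) \ {irreducibleComponent g}
  have heq : irreducibleComponent g = (⋃₀ S)ᶜ := by
    ext x
    constructor
    · rintro hx ⟨Z, ⟨hZ, hne⟩, hxZ⟩
      exact hne ((Component.existsUnique_component G x).unique ⟨hZ, hxZ⟩
        ⟨irreducibleComponent_mem_irreducibleComponents g, hx⟩)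
    · intro hx
      by_contra hn
      exact hx ⟨irreducibleComponent x, ⟨irreducibleComponent_mem_irreducibleComponents x,
        fun (h : irreducibleComponent x = irreducibleComponent g) => hn (h ▸ mem_irreducibleComponent)⟩, mem_irreducibleComponent⟩
  have hopen : IsOpen (irreducibleComponent g) := by
    rw [heq]
    exact (SchPoints.isClosed_sUnion_components hT Set.diff_subset).isOpen_compl
  refine ⟨subset_antisymm ?_ ?_, hopen⟩
  · exact IsClopen.connectedComponent_subset ⟨isClosed_irreducibleComponent, hopen⟩
      mem_irreducibleComponent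
  · exact isIrreducible_irreducibleComponent.isConnected.2.subset_connectedComponent
      mem_irreducibleComponent

/-- Connected components are compact. -/
theorem isCompact_connectedComponent (g : G.left) : IsCompact (connectedComponent g) := by
  rw [(connectedComponent_eq G g).1]
  set Z := irreducibleComponent g
  have : JacobsonSpace G.left := LocallyOfFiniteType.jacobsonSpace G.hom
  obtain ⟨x, hxZ, hx⟩ := nonempty_inter_closedPoints (Z := Z) ⟨g, mem_irreducibleComponent⟩
    isClosed_irreducibleComponent.isLocallyClosed
  let T := Points.pointObj G x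
  let pt := Points.pointHom G x
  have : IsClosedImmersion (G.left.fromSpecResidueField x) :=
    isClosed_singleton_iff_isClosedImmersion.mp hx
  have : IsFinite T.hom :=
    (isFinite_iff_locallyOfFiniteType_of_jacobsonSpace (f := G.left.fromSpecResidueField x ≫ G.hom)).mpr
      inferInstance
  have hfin : IsFinite (fst G T).left :=
    MorphismProperty.pullback_fst (P := @IsFinite) G.hom T.hom inferInstance
  have hfl : Flat (fst G T).left :=
    MorphismProperty.pullback_fst (P := @Flat) G.hom T.hom inferInstance
  let e : G ⊗ T ≅ G ⊗ T :=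
    { hom := lift (fst G T * (snd G T ≫ pt)) (snd G T)
      inv := lift (fst G T * (snd G T ≫ pt)⁻¹) (snd G T)
      hom_inv_id := by
        refine CartesianMonoidalCategory.hom_ext _ _ ?_ (by simp)
        rw [Category.assoc, lift_fst, MonObj.comp_mul, GrpObj.comp_inv, lift_fst, ← Category.assoc,
          lift_snd]
        simp
      inv_hom_id := by
        refine CartesianMonoidalCategory.hom_ext _ _ ?_ (by simp)
        rw [Category.assoc, lift_fst, MonObj.comp_mul, lift_fst, ← Category.assoc, lift_snd]
        simp }
  have : IsIso e.hom.left := @Basic.isIso_left _ _ _ e.hom (Iso.isIso_hom e)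
  let f : G ⊗ T ⟶ G := e.hom ≫ fst G T
  have : IsFinite f.left := by rw [Over.comp_left]; infer_instance
  have : Flat f.left := by rw [Over.comp_left]; infer_instance
  let M : IdComponent.zObj G ⊗ T ⟶ G := (fst _ _ ≫ IdComponent.zι G) * (snd _ _ ≫ pt)
  have hM : M = IdComponent.zι G ▷ T ≫ f := by
    simp only [M, f, e, lift_fst, MonObj.comp_mul, whiskerRight_fst, ← Category.assoc, whiskerRight_snd]
    rfl
  have hz : IsClosedImmersion (IdComponent.zι G ▷ T).left :=
    Basic.whiskerRight_mem @IsClosedImmersion _ T inferInstance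
  have hcl : IsClosed (Set.range M.left) := by
    rw [hM, Over.comp_left, Scheme.Hom.comp_base, TopCat.coe_comp, Set.range_comp]
    exact f.left.isClosedMap _ (IdComponent.zι G ▷ T).left.isClosedEmbedding.isClosed_range
  have hcs : CompactSpace (IdComponent.zObj G ⊗ T).left := by
    have : CompactSpace (IdComponent.zObj G).left :=
      ⟨(IdComponent.zι G).left.isClosedEmbedding.isEmbedding.isCompact_iff.mpr (by
        rw [Set.image_univ, IdComponent.range_zι]
        exact IdComponent.isCompact_component G)⟩
    have : QuasiCompact (fst (IdComponent.zObj G) T).left :=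
      MorphismProperty.pullback_fst (P := @QuasiCompact) (IdComponent.zObj G).hom T.hom inferInstance
    exact QuasiCompact.compactSpace_of_compactSpace (fst (IdComponent.zObj G) T).left
  obtain ⟨d, hd⟩ := QuasiSober.sober (isIrreducible_irreducibleComponent (x := IdComponent.e₀ G))
    isClosed_irreducibleComponent
  have hdmax : Component.IsMaxGen d := Component.isMaxGen_iff.mpr
    (hd.def.symm ▸ irreducibleComponent_mem_irreducibleComponents _)
  obtain ⟨z, hz'⟩ := (IdComponent.range_zι G).ge (hd.mem)
  obtain ⟨t⟩ := (inferInstance : Nonempty T.left)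
  obtain ⟨q, hq, -⟩ := Scheme.Pullback.exists_preimage_pullback (f := (IdComponent.zObj G).hom)
    (g := T.hom) z t (Subsingleton.elim (α := ↥(Spec (CommRingCat.of K))) _ _)
  let w := (IdComponent.zι G ▷ T).left q
  have hw : (fst G T).left w = d := by
    rw [← Points.comp_apply, whiskerRight_fst, Points.comp_apply]
    exact (congrArg _ hq).trans hz'
  have hwmax : Component.IsMaxGen w := fun w' h' => by
    have h1 := hdmax _ (hw ▸ h'.map (fst G T).left.continuous)
    exact Dimension.eq_of_specializes_of_apply_eq (fst G T).left h' (h1.trans hw.symm)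
  have hMq : Component.IsMaxGen (M.left q) := by
    rw [hM, Points.comp_apply]
    intro a ha
    obtain ⟨a', ha', rfl⟩ := Flat.generalizingMap f.left ha
    rw [hwmax a' ha']
  obtain ⟨a, hamax, hax, haq⟩ := IdComponent.exists_gen_translate G x q
  have haM : ∀ q', a ⤳ M.left q' := fun q' => by
    obtain ⟨b, hbmax, hbx, hbq⟩ := IdComponent.exists_gen_translate G x q'
    rw [Component.uniqueComp G x a b hamax hbmax hax hbx]
    exact hbq
  have haeq : a = M.left q := hMq a haq
  have hZ : closure {a} = Z := (Component.existsUnique_component G x).unique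
    ⟨Component.isMaxGen_iff.mp hamax, hax.mem_closure⟩
    ⟨irreducibleComponent_mem_irreducibleComponents g, hxZ⟩
  have : Z = Set.range M.left := by
    refine subset_antisymm ?_ ?_
    · rw [← hZ]
      exact hcl.closure_subset_iff.mpr (Set.singleton_subset_iff.mpr ⟨q, haeq.symm⟩)
    · rintro _ ⟨q', rfl⟩
      rw [← hZ]
      exact (haM q').mem_closure
  rw [this]
  exact isCompact_range M.left.continuous

end Groth.Agent.GrpSGA.FieldComp
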