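import Groth.Agent.GrpScheme.IdComponent
import Groth.Agent.GrpScheme.Points
import Groth.Prelude.Def_AlgGrp

/-!
# Homogeneous spaces of arbitrary group schemes over a field
-/

set_option autoImplicit false

universe u

open CategoryTheory MonoidalCategory CartesianMonoidalCategory MonObj GrpObj AlgebraicGeometry Limits
open Groth.Agent.GrpScheme
open Groth.Agent.GrpScheme.Component (IsMaxGen UniqueComp bcL proj)

namespace Groth.Agent.GrpSGA.Homog

variable {K : Type u} [Field K] {G X Y : Over (Spec (CommRingCat.of K))} [GrpObj G]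

/-- The map `(g, x) ↦ (g • x, x)` is surjective. -/
def IsHomog (a : AlgGrp.Action G X) : Prop := Surjective (lift a.act (snd G X)).left

section Rational

variable (L : Type u) [Field L] [Algebra K L]

/-- The base change functor. -/
noncomputable abbrev bcF : Over (Spec (CommRingCat.of K)) ⥤ Over (Spec (CommRingCat.of L)) :=
  Over.pullback (FBase.BC.specMap K L)

omit [GrpObj G] in
lemma map_proj (f : X ⟶ Y) : ((bcF L).map f).left ≫ proj L Y = proj L X ≫ f.left :=
  pullback.lift_fst _ _ _

omit [GrpObj G] in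
lemma map_proj_apply (f : X ⟶ Y) (z : (bcL L X).left) :
    proj L Y (((bcF L).map f).left z) = f.left (proj L X z) := by
  rw [← Scheme.Hom.comp_apply, map_proj, Scheme.Hom.comp_apply]

omit [GrpObj G] in
lemma isPullback_proj (f : X ⟶ Y) :
    IsPullback (proj L X) ((bcF L).map f).left f.left (proj L Y) := by
  refine IsPullback.of_bot ?_ (map_proj L f).symm
    (IsPullback.of_hasPullback Y.hom (FBase.BC.specMap K L))
  rw [Over.w, show ((bcF L).map f).left ≫ pullback.snd Y.hom _ = pullback.snd X.hom _ from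
    pullback.lift_snd _ _ _]
  exact IsPullback.of_hasPullback _ _

variable (a : AlgGrp.Action G X)

/-- Base change of an action. -/
noncomputable def bcA : AlgGrp.Action (bcL L G) (bcL L X) where
  act := Functor.LaxMonoidal.μ (bcF L) G X ≫ (bcF L).map a.act
  one_act := by
    have h := Functor.LaxMonoidal.left_unitality (bcF (K := K) L) X
    rw [Functor.obj.η_def, comp_whiskerRight, Category.assoc, Functor.LaxMonoidal.μ_natural_left_assoc,
      ← Functor.map_comp, a.one_act, h]
  mul_act := by
    rw [Functor.obj.μ_def, comp_whiskerRight, Category.assoc, Functor.LaxMonoidal.μ_natural_left_assoc,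
      ← Functor.map_comp, a.mul_act, Functor.map_comp, Functor.map_comp,
      Functor.LaxMonoidal.associativity_assoc, MonoidalCategory.whiskerLeft_comp, Category.assoc, Functor.LaxMonoidal.μ_natural_right_assoc]

lemma bcA_act_proj : (bcA L a).act.left ≫ proj L X = (Functor.LaxMonoidal.μ (bcF L) G X).left ≫ proj L (G ⊗ X) ≫ a.act.left := by
  rw [← map_proj]
  rfl

lemma isHomog_bcA (h : IsHomog a) : IsHomog (bcA L a) := by
  have e : lift (bcA L a).act (snd (bcL L G) (bcL L X)) ≫ Functor.LaxMonoidal.μ (bcF L) X X =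
      Functor.LaxMonoidal.μ (bcF L) G X ≫ (bcF L).map (lift a.act (snd G X)) := by
    rw [← cancel_mono (Functor.Monoidal.μIso (bcF L) X X).inv]
    refine CartesianMonoidalCategory.hom_ext _ _ ?_ ?_ <;>
    simp [bcA, Functor.OplaxMonoidal.δ_fst, Functor.OplaxMonoidal.δ_snd, ← Functor.map_comp]
  have : Surjective ((bcF L).map (lift a.act (snd G X))).left :=
    MorphismProperty.of_isPullback (isPullback_proj L _) h
  have hμ : IsIso (Functor.LaxMonoidal.μ (bcF L) X X).left := Basic.isIso_left _
  have hμ' : IsIso (Functor.LaxMonoidal.μ (bcF L) G X).left := Basic.isIso_left _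
  have h2 := congrArg CommaMorphism.left e
  simp only [Over.comp_left] at h2
  show Surjective (lift (bcA L a).act (snd (bcL L G) (bcL L X))).left
  rw [show (lift (bcA L a).act (snd (bcL L G) (bcL L X))).left =
      ((Functor.LaxMonoidal.μ (bcF L) G X).left ≫ ((bcF L).map (lift a.act (snd G X))).left) ≫ inv (Functor.LaxMonoidal.μ (bcF L) X X).left by
    rw [← h2, Category.assoc, IsIso.hom_inv_id, Category.comp_id]]
  infer_instance

/-- The base change of a section. -/
noncomputable def bcPt (x : 𝟙_ (Over (Spec (CommRingCat.of K))) ⟶ X) :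
    𝟙_ (Over (Spec (CommRingCat.of L))) ⟶ bcL L X := Functor.LaxMonoidal.ε (bcF L) ≫ (bcF L).map x

omit [GrpObj G] in
lemma proj_bcPt (x : 𝟙_ (Over (Spec (CommRingCat.of K))) ⟶ X) (p : ↥(Spec (CommRingCat.of L))) :
    proj L X ((bcPt L x).left p) = x.left (IsLocalRing.closedPoint K) := by
  rw [bcPt, Points.comp_apply, map_proj_apply]
  exact congrArg x.left (Subsingleton.elim (α := Spec (CommRingCat.of K)) _ _)

lemma bcA_orbitMap (x : 𝟙_ (Over (Spec (CommRingCat.of K))) ⟶ X) :
    (bcA L a).orbitMap (bcPt L x) = (bcF L).map (a.orbitMap x) := by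
  have e : lift (𝟙 (bcL L G)) (toUnit (bcL L G) ≫ bcPt L x) ≫ Functor.LaxMonoidal.μ (bcF L) G X =
      (bcF L).map (lift (𝟙 G) (toUnit G ≫ x)) := by
    rw [← cancel_mono (Functor.Monoidal.μIso (bcF L) G X).inv]
    refine CartesianMonoidalCategory.hom_ext _ _ ?_ ?_ <;>
    simp [bcPt, Functor.OplaxMonoidal.δ_fst, Functor.OplaxMonoidal.δ_snd, ← Functor.map_comp,
      Functor.Monoidal.toUnit_ε_assoc]
  show lift (𝟙 _) (toUnit _ ≫ bcPt L x) ≫ Functor.LaxMonoidal.μ (bcF L) G X ≫ (bcF L).map a.act = _
  rw [← Category.assoc, e, ← Functor.map_comp]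
  rfl

omit [GrpObj G] in
lemma eq_of_proj_eq (x : 𝟙_ (Over (Spec (CommRingCat.of K))) ⟶ X) {z z' : (bcL L X).left}
    (hz : proj L X z = x.left (IsLocalRing.closedPoint K))
    (hz' : proj L X z' = x.left (IsLocalRing.closedPoint K)) : z = z' := by
  have hss : Subsingleton ↥(bcL L (𝟙_ (Over (Spec (CommRingCat.of K))))).left :=
    have : IsIso (pullback.snd (𝟙_ (Over (Spec (CommRingCat.of K)))).hom (FBase.BC.specMap K L)) :=
      inferInstanceAs (IsIso (pullback.snd (𝟙 _) (FBase.BC.specMap K L)))
    (pullback.snd (𝟙_ (Over (Spec (CommRingCat.of K)))).hom (FBase.BC.specMap K L)).homeomorph.injective.subsingleton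
  obtain ⟨p, -, hp⟩ := Scheme.exists_preimage_of_isPullback (isPullback_proj L x) _ z hz.symm
  obtain ⟨p', -, hp'⟩ := Scheme.exists_preimage_of_isPullback (isPullback_proj L x) _ z' hz'.symm
  rw [← hp, ← hp', hss.elim p p']

omit [GrpObj G] in
lemma isMaxGen_proj {z : (bcL L X).left} (h : IsMaxGen z) : IsMaxGen (proj L X z) := fun w hw => by
  have : Flat (proj L X) := inferInstanceAs (Flat (pullback.fst X.hom (FBase.BC.specMap K L)))
  obtain ⟨w', hw', e⟩ := Flat.generalizingMap (proj L X) hw
  rw [← e, h w' hw']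

omit [GrpObj G] in
lemma exists_isMaxGen_lift {z : (bcL L X).left} {b : X.left} (hb : IsMaxGen b) (hbz : b ⤳ proj L X z) :
    ∃ b', IsMaxGen b' ∧ b' ⤳ z ∧ proj L X b' = b := by
  have : Flat (proj L X) := inferInstanceAs (Flat (pullback.fst X.hom (FBase.BC.specMap K L)))
  obtain ⟨a₁, h₁, e₁⟩ := Flat.generalizingMap (proj L X) hbz
  obtain ⟨a₀, h₀, h₀₁⟩ := Component.exists_isMaxGen a₁
  exact ⟨a₀, h₀, h₀₁.trans h₁, hb _ (e₁ ▸ h₀₁.map (proj L X).continuous)⟩

omit [GrpObj G] in
/-- Preimage of a geometrically irreducible closed subset. -/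
lemma isIrreducible_preimage {Z : Scheme.{u}} (incl : Z ⟶ X.left) [IsClosedImmersion incl]
    [GeometricallyIrreducible (incl ≫ X.hom)] : IsIrreducible (proj L X ⁻¹' Set.range incl) := by
  let f := FBase.BC.specMap K L
  let i : pullback (incl ≫ X.hom) f ⟶ (bcL L X).left :=
    pullback.map (incl ≫ X.hom) f X.hom f incl (𝟙 _) (𝟙 _) (by simp) (by simp)
  have hi : IsPullback i (pullback.fst (incl ≫ X.hom) f) (proj L X) incl := by
    refine IsPullback.of_right (h₁₂ := pullback.snd X.hom f) (h₂₂ := X.hom) (v₁₃ := f) ?_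
      (pullback.lift_fst _ _ _) (IsPullback.of_hasPullback X.hom f).flip
    rw [show i ≫ pullback.snd X.hom f = pullback.snd (incl ≫ X.hom) f from
      (pullback.lift_snd _ _ _).trans (Category.comp_id _)]
    exact (IsPullback.of_hasPullback _ f).flip
  have hr : proj L X ⁻¹' Set.range incl = Set.range i := by
    refine Set.Subset.antisymm (fun w ⟨z, hz⟩ => ?_) ?_
    · obtain ⟨q, hq, -⟩ := Scheme.exists_preimage_of_isPullback hi w z hz.symm
      exact ⟨q, hq⟩
    · rintro _ ⟨q, rfl⟩
      exact ⟨_, ((Scheme.Hom.comp_apply _ _ _).symm.trans (congr(($hi.w) q))).trans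
        (Scheme.Hom.comp_apply _ _ _) |>.symm⟩
  have : Subsingleton ↥(Spec (CommRingCat.of L)) := inferInstanceAs (Subsingleton (PrimeSpectrum L))
  have : Nonempty ↥(Spec (CommRingCat.of L)) := ⟨IsLocalRing.closedPoint L⟩
  have : GeometricallyIrreducible (pullback.snd (incl ≫ X.hom) f) := inferInstance
  have := GeometricallyIrreducible.irreducibleSpace_of_subsingleton (f := pullback.snd (incl ≫ X.hom) f)
  rw [hr, ← Set.image_univ]
  exact (IrreducibleSpace.isIrreducible_univ _).image _ i.continuous.continuousOn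

omit [GrpObj G] in
lemma irreducibleSpace_redSub {Z : TopologicalSpace.Closeds X.left} (hZ : IsIrreducible (Z : Set X.left)) :
    IrreducibleSpace (Component.redSub X Z).left := by
  show IrreducibleSpace ↥(Scheme.IdealSheafData.vanishingIdeal Z).subscheme
  rw [(Scheme.IdealSheafData.vanishingIdeal Z).subschemeι.isClosedEmbedding.isEmbedding.toHomeomorph.irreducibleSpace_iff,
    ← isIrreducible_iff_irreducibleSpace, Scheme.IdealSheafData.range_subschemeι,
    Scheme.IdealSheafData.coe_support_vanishingIdeal]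
  exact hZ

omit [GrpObj G] in
/-- Over an algebraically closed field preimages of irreducible closed sets are irreducible. -/
lemma isIrreducible_preimage_closure [IsAlgClosed K] (c : X.left) :
    IsIrreducible (proj L X ⁻¹' closure {c}) := by
  let Z : TopologicalSpace.Closeds X.left := ⟨closure {c}, isClosed_closure⟩
  let incl := (Scheme.IdealSheafData.vanishingIdeal Z).subschemeι
  have : IrreducibleSpace (Component.redSub X Z).left :=
    irreducibleSpace_redSub isIrreducible_singleton.closure
  have : GeometricallyIrreducible (incl ≫ X.hom) :=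
    FBase.BC.geometricallyIrreducible_of_isSepClosed (Component.redSub X Z).hom
  have := isIrreducible_preimage L (X := X) incl
  rwa [Scheme.IdealSheafData.range_subschemeι, Scheme.IdealSheafData.coe_support_vanishingIdeal] at this

end Rational

omit [GrpObj G] in
/-- A geometric rational point over a given point. -/
lemma exists_rational_lift (y : X.left) : ∃ (L : Type u) (_ : Field L) (_ : Algebra K L) (_ : IsAlgClosed L)
    (x : 𝟙_ (Over (Spec (CommRingCat.of L))) ⟶ bcL L X),
    proj L X (x.left (IsLocalRing.closedPoint L)) = y := by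
  let φ : K →+* X.left.residueField y :=
    (Spec.preimage (X.left.fromSpecResidueField y ≫ X.hom)).hom
  let L := AlgebraicClosure (X.left.residueField y)
  let : Algebra K L := ((algebraMap (X.left.residueField y) L).comp φ).toAlgebra
  let q : Spec (CommRingCat.of L) ⟶ X.left :=
    Spec.map (CommRingCat.ofHom (algebraMap (X.left.residueField y) L)) ≫
      X.left.fromSpecResidueField y
  have hq : q ≫ X.hom = 𝟙 _ ≫ FBase.BC.specMap K L := by
    rw [Category.id_comp, Category.assoc, ← Spec.map_preimage (X.left.fromSpecResidueField y ≫ X.hom),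
      ← Spec.map_comp]
    rfl
  refine ⟨L, inferInstance, inferInstance, inferInstance,
    Over.homMk (pullback.lift q (𝟙 _) hq) (pullback.lift_snd _ _ _), ?_⟩
  refine (Scheme.Hom.comp_apply _ _ _).symm.trans ?_
  rw [show (Over.homMk (U := 𝟙_ (Over (Spec (CommRingCat.of L)))) (V := bcL L X)
    (pullback.lift q (𝟙 _) hq) (pullback.lift_snd _ _ _)).left ≫ proj L X = q from pullback.lift_fst _ _ _]
  exact (Scheme.Hom.comp_apply _ _ _).trans (Scheme.fromSpecResidueField_apply y _)

/-- Translation by a section. -/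
noncomputable def transl (a : AlgGrp.Action G X) (g : 𝟙_ (Over (Spec (CommRingCat.of K))) ⟶ G) : X ≅ X where
  hom := Basic.smul a (toUnit X ≫ g) (𝟙 X)
  inv := Basic.smul a (toUnit X ≫ g)⁻¹ (𝟙 X)
  hom_inv_id := by
    rw [Basic.comp_smul, GrpObj.comp_inv, comp_toUnit_assoc, Category.comp_id, Basic.inv_smul_smul']
  inv_hom_id := by
    rw [Basic.comp_smul, comp_toUnit_assoc, Category.comp_id, Basic.smul_inv_smul']

lemma orbit_transl (a : AlgGrp.Action G X) (x : 𝟙_ (Over (Spec (CommRingCat.of K))) ⟶ X)
    (g : 𝟙_ (Over (Spec (CommRingCat.of K))) ⟶ G) :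
    (Basic.translate g).hom ≫ a.orbitMap x = a.orbitMap x ≫ (transl a g).hom := by
  have h1 : ∀ {T : Over (Spec (CommRingCat.of K))} (h : T ⟶ G),
      h ≫ a.orbitMap x = Basic.smul a h (toUnit T ≫ x) := fun h => by
    simp [AlgGrp.Action.orbitMap, Basic.smul, comp_lift_assoc]
  rw [h1, transl, Basic.comp_smul, comp_toUnit_assoc, Category.comp_id, Basic.translate,
    Basic.mul_smul']
  congr 1

lemma point_transl (a : AlgGrp.Action G X) (x : 𝟙_ (Over (Spec (CommRingCat.of K))) ⟶ X)
    (g : 𝟙_ (Over (Spec (CommRingCat.of K))) ⟶ G) :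
    x ≫ (transl a g).hom = g ≫ a.orbitMap x := by
  simp [transl, AlgGrp.Action.orbitMap, Basic.smul, comp_lift_assoc, comp_lift,
    toUnit_unique (toUnit (𝟙_ (Over (Spec (CommRingCat.of K))))) (𝟙 _)]

lemma translate_unit (g : 𝟙_ (Over (Spec (CommRingCat.of K))) ⟶ G) :
    (Basic.translate g).hom.left (IdComponent.e₀ G) = g.left (IsLocalRing.closedPoint K) := by
  rw [IdComponent.e₀, ← Points.comp_apply, show η[G] ≫ (Basic.translate g).hom = g by
    rw [Basic.translate, MonObj.comp_mul, comp_toUnit_assoc,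
      toUnit_unique (toUnit (𝟙_ (Over (Spec (CommRingCat.of K))))) (𝟙 _), Category.id_comp, Category.comp_id,
      show (η[G] : 𝟙_ _ ⟶ G) = 1 by rw [Hom.one_def, toUnit_unit, Category.id_comp], _root_.mul_one]]

/-- The orbit map of a rational point is surjective. -/
lemma surjective_orbitMap (a : AlgGrp.Action G X) (hΦ : IsHomog a)
    (x : 𝟙_ (Over (Spec (CommRingCat.of K))) ⟶ X) : Function.Surjective (a.orbitMap x).left := by
  intro y
  obtain ⟨q, hq⟩ := hΦ.surj ((lift (𝟙 X) (toUnit X ≫ x)).left y)
  have h1 : a.act.left q = y := by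
    have := congrArg (fst X X).left hq
    rwa [← Points.comp_apply, lift_fst, ← Points.comp_apply, lift_fst] at this
  have h2 : (snd G X).left q = x.left (IsLocalRing.closedPoint K) := by
    have := congrArg (snd X X).left hq
    rw [← Points.comp_apply, lift_snd, ← Points.comp_apply, lift_snd, Points.comp_apply] at this
    exact this.trans (congrArg x.left (Subsingleton.elim (α := Spec (CommRingCat.of K)) _ _))
  obtain ⟨w, hw, -⟩ := Scheme.exists_preimage_of_isPullback
    ((Basic.isPullback_whiskerLeft (R := G) x).map (Over.forget _)) q (IsLocalRing.closedPoint K) h2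
  refine ⟨(fst G (𝟙_ _)).left w, ?_⟩
  rw [← Points.comp_apply, ← h1, ← hw]
  show _ = a.act.left ((G ◁ x).left w)
  rw [← Points.comp_apply (G ◁ x) a.act]
  refine congrArg (fun m : G ⊗ 𝟙_ (Over (Spec (CommRingCat.of K))) ⟶ X => m.left w) ?_
  rw [AlgGrp.Action.orbitMap, comp_lift_assoc, Category.comp_id, comp_toUnit_assoc]
  congr 1
  refine CartesianMonoidalCategory.hom_ext _ _ (by simp) ?_
  simp [toUnit_unique (snd G (𝟙_ (Over (Spec (CommRingCat.of K))))) (toUnit _)]

/-- Uniqueness at a rational point over an algebraically closed field. -/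
lemma uniqueComp_rational [IsAlgClosed K] (a : AlgGrp.Action G X) (hΦ : IsHomog a)
    (x : 𝟙_ (Over (Spec (CommRingCat.of K))) ⟶ X) : UniqueComp (x.left (IsLocalRing.closedPoint K)) := by
  suffices h : ∀ c, IsMaxGen c → c ⤳ x.left (IsLocalRing.closedPoint K) →
      ∀ b, IsMaxGen b → b ⤳ x.left (IsLocalRing.closedPoint K) → b = c from
    fun b c hb hc hbx hcx => h c hc hcx b hb hbx
  intro c hc hcx
  obtain ⟨g₀, hg₀⟩ := surjective_orbitMap a hΦ x c
  obtain ⟨L, _, _, _, g, hg⟩ := exists_rational_lift g₀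
  let x' := bcPt L x
  let τ := (transl (bcA L a) g).hom
  have : IsIso τ.left := Basic.isIso_left _
  have hτ : τ.left (x'.left (IsLocalRing.closedPoint L)) =
      ((bcF L).map (a.orbitMap x)).left (g.left (IsLocalRing.closedPoint L)) := by
    rw [← bcA_orbitMap, ← Points.comp_apply, ← Points.comp_apply, point_transl]
  set c' := ((bcF L).map (a.orbitMap x)).left (g.left (IsLocalRing.closedPoint L)) with hc'
  have hpc : proj L X c' = c := by rw [hc', map_proj_apply, hg, hg₀]
  obtain ⟨ζ, hζ⟩ := QuasiSober.sober (isIrreducible_preimage_closure L c)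
    (isClosed_closure.preimage (proj L X).continuous)
  have hu : UniqueComp c' := by
    have h : ∀ b, IsMaxGen b → b ⤳ c' → b = ζ := fun b hb hbc => by
      have : proj L X b = c := hc _ (hpc ▸ hbc.map (proj L X).continuous)
      exact (hb ζ (hζ.specializes (show proj L X b ∈ closure {c} from this.symm ▸ subset_closure rfl))).symm
    exact fun b₁ b₂ h₁ h₂ s₁ s₂ => (h b₁ h₁ s₁).trans (h b₂ h₂ s₂).symm
  have hx' : UniqueComp (x'.left (IsLocalRing.closedPoint L)) := by
    have h := Component.uniqueComp_homeomorph τ.left.homeomorph.symm hu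
    rwa [show c' = τ.left.homeomorph (x'.left (IsLocalRing.closedPoint L)) from hτ.symm,
      Homeomorph.symm_apply_apply] at h
  intro b hb hbx
  have hp : proj L X (x'.left (IsLocalRing.closedPoint L)) = x.left (IsLocalRing.closedPoint K) :=
    proj_bcPt L x _
  obtain ⟨b', hb', hbs, rfl⟩ := exists_isMaxGen_lift L hb (hp.symm ▸ hbx)
  obtain ⟨c₁, hc₁, hcs, rfl⟩ := exists_isMaxGen_lift L hc (hp.symm ▸ hcx)
  rw [hx' b' c₁ hb' hc₁ hbs hcs]

/-- Through every point passes a unique irreducible component. -/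
theorem uniqueComp (a : AlgGrp.Action G X) (hΦ : IsHomog a) (y : X.left) : UniqueComp y := by
  obtain ⟨L, _, _, _, x, rfl⟩ := exists_rational_lift y
  intro b c hb hc hby hcy
  obtain ⟨b', hb', hbs, rfl⟩ := exists_isMaxGen_lift L hb hby
  obtain ⟨c', hc', hcs, rfl⟩ := exists_isMaxGen_lift L hc hcy
  rw [uniqueComp_rational (bcA L a) (isHomog_bcA L a hΦ) x b' c' hb' hc' hbs hcs]

/-- Exactly one irreducible component passes through each point. -/
theorem existsUnique_component (a : AlgGrp.Action G X) (hΦ : IsHomog a) (y : X.left) :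
    ∃! Z : Set X.left, Z ∈ irreducibleComponents (X.left : Type u) ∧ y ∈ Z := by
  refine ⟨irreducibleComponent y,
    ⟨irreducibleComponent_mem_irreducibleComponents y, mem_irreducibleComponent⟩, ?_⟩
  rintro Z ⟨hZ, hyZ⟩
  obtain ⟨z, hz⟩ := QuasiSober.sober hZ.1 (isClosed_of_mem_irreducibleComponents Z hZ)
  obtain ⟨b, hb⟩ := QuasiSober.sober (isIrreducible_irreducibleComponent (x := y))
    isClosed_irreducibleComponent
  have := uniqueComp a hΦ y z b (Component.isMaxGen_iff.mpr (hz.def.symm ▸ hZ))
    (Component.isMaxGen_iff.mpr (hb.def.symm ▸ irreducibleComponent_mem_irreducibleComponents y))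
    (hz.specializes hyZ) (hb.specializes mem_irreducibleComponent)
  rw [← hz.def, ← hb.def, this]

/-- The component through a rational point stays irreducible under field extensions. -/
theorem geometricallyIrreducible_component (a : AlgGrp.Action G X) (hΦ : IsHomog a)
    (x : 𝟙_ (Over (Spec (CommRingCat.of K))) ⟶ X) {Z : Scheme.{u}} (incl : Z ⟶ X.left)
    [IsClosedImmersion incl] (hZ : Set.range incl ∈ irreducibleComponents (X.left : Type u))
    (hx : x.left (IsLocalRing.closedPoint K) ∈ Set.range incl) :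
    GeometricallyIrreducible (incl ≫ X.hom) := by
  let L := AlgebraicClosure K
  let f := FBase.BC.specMap K L
  let x' := (bcPt L x).left (IsLocalRing.closedPoint L)
  have hp : proj L X x' = x.left (IsLocalRing.closedPoint K) := proj_bcPt L x _
  have huniq : UniqueComp x' := uniqueComp_rational (bcA L a) (isHomog_bcA L a hΦ) (bcPt L x)
  obtain ⟨ξ, hξ⟩ := QuasiSober.sober hZ.1 incl.isClosedEmbedding.isClosed_range
  have hξmax : IsMaxGen ξ := Component.isMaxGen_iff.mpr (hξ.def.symm ▸ hZ)
  have : IsIntegralHom (proj L X) :=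
    inferInstanceAs (IsIntegralHom (pullback.fst X.hom (FBase.BC.specMap K L)))
  obtain ⟨a₀, ha₀, ha₀x⟩ := Component.exists_isMaxGen x'
  have key : ∀ w, proj L X w ∈ Set.range incl → a₀ ⤳ w := by
    intro w hw
    obtain ⟨w₁, hw₁max, hw₁, hpw₁⟩ := exists_isMaxGen_lift L hξmax (hξ.specializes hw)
    have hcl : IsClosed (proj L X '' closure {w₁}) := (proj L X).isClosedMap _ isClosed_closure
    obtain ⟨z, hz, hze⟩ : x.left (IsLocalRing.closedPoint K) ∈ proj L X '' closure {w₁} :=
      hcl.closure_subset_iff.mpr (Set.singleton_subset_iff.mpr ⟨w₁, subset_closure rfl, hpw₁⟩)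
        (specializes_iff_mem_closure.mp (hξ.specializes hx))
    rw [eq_of_proj_eq L x hze hp] at hz
    rw [huniq a₀ w₁ ha₀ hw₁max ha₀x (specializes_iff_mem_closure.mpr hz)]
    exact hw₁
  let i : pullback (incl ≫ X.hom) f ⟶ (bcL L X).left :=
    pullback.map (incl ≫ X.hom) f X.hom f incl (𝟙 _) (𝟙 _) (by simp) (by simp)
  have hi : IsPullback i (pullback.fst (incl ≫ X.hom) f) (proj L X) incl := by
    refine IsPullback.of_right (h₁₂ := pullback.snd X.hom f) (h₂₂ := X.hom) (v₁₃ := f) ?_
      (pullback.lift_fst _ _ _) (IsPullback.of_hasPullback X.hom f).flip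
    rw [show i ≫ pullback.snd X.hom f = pullback.snd (incl ≫ X.hom) f from
      (pullback.lift_snd _ _ _).trans (Category.comp_id _)]
    exact (IsPullback.of_hasPullback _ f).flip
  have : IsClosedImmersion i := MorphismProperty.of_isPullback hi.flip ‹_›
  have hr : Set.range i = proj L X ⁻¹' Set.range incl := by
    refine Set.Subset.antisymm ?_ fun w ⟨z, hz⟩ => ?_
    · rintro _ ⟨q, rfl⟩
      exact ⟨_, ((Scheme.Hom.comp_apply _ _ _).symm.trans (congr(($hi.w) q))).trans
        (Scheme.Hom.comp_apply _ _ _) |>.symm⟩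
    · obtain ⟨q, hq, -⟩ := Scheme.exists_preimage_of_isPullback hi w z hz.symm
      exact ⟨q, hq⟩
  have hrange : IsIrreducible (Set.range i) := by
    rw [hr]
    obtain ⟨w₁, -, -, hpw₁⟩ := exists_isMaxGen_lift L hξmax (hξ.specializes (hp.symm ▸ hx))
    have hmem : a₀ ∈ proj L X ⁻¹' Set.range incl := by
      have h1 : a₀ ⤳ w₁ := key w₁ (hpw₁.symm ▸ hξ.mem)
      show proj L X a₀ ∈ Set.range incl
      have h2 : proj L X a₀ ⤳ ξ := hpw₁ ▸ h1.map (proj L X).continuous
      rw [hξmax _ h2]
      exact hξ.mem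
    rw [show proj L X ⁻¹' Set.range incl = closure {a₀} from Set.Subset.antisymm
      (fun w hw => specializes_iff_mem_closure.mp (key w hw))
      ((incl.isClosedEmbedding.isClosed_range.preimage (proj L X).continuous).closure_subset_iff.mpr
        (Set.singleton_subset_iff.mpr hmem))]
    exact isIrreducible_singleton.closure
  have : IrreducibleSpace ↥(pullback (incl ≫ X.hom) f) := by
    rw [i.isClosedEmbedding.isEmbedding.toHomeomorph.irreducibleSpace_iff,
      ← isIrreducible_iff_irreducibleSpace]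
    exact hrange
  exact (FBase.BC.geometricallyIrreducible_iff (K := L) _).mpr
    (FBase.BC.geometricallyIrreducible_of_isSepClosed (pullback.snd (incl ≫ X.hom) f))

/-- An irreducible set through the unit lies in the identity component. -/
lemma subset_component {S : Set G.left} (hS : IsIrreducible S) (he : IdComponent.e₀ G ∈ S) :
    S ⊆ irreducibleComponent (IdComponent.e₀ G) := by
  obtain ⟨Z, hZ, hSZ⟩ := exists_preirreducible S hS.2
  have hZc : Z ∈ irreducibleComponents G.left :=
    ⟨⟨hS.1.mono hSZ.1, hZ⟩, fun T hT hle => (hSZ.2 T hT.2 hle).le⟩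
  obtain ⟨W, -, hu⟩ := Component.existsUnique_component G (IdComponent.e₀ G)
  rw [hu _ ⟨irreducibleComponent_mem_irreducibleComponents _, mem_irreducibleComponent⟩,
    ← hu _ ⟨hZc, hSZ.1 he⟩]
  exact hSZ.1

/-- The orbit of the identity component reaches the generic point of the component. -/
lemma exists_mem_component_rational [IsAlgClosed K] (a : AlgGrp.Action G X) (hΦ : IsHomog a)
    (x : 𝟙_ (Over (Spec (CommRingCat.of K))) ⟶ X) {c : X.left} (hc : IsMaxGen c)
    (hcx : c ⤳ x.left (IsLocalRing.closedPoint K)) :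
    ∃ z ∈ irreducibleComponent (IdComponent.e₀ G), (a.orbitMap x).left z = c := by
  obtain ⟨g₀, hg₀⟩ := surjective_orbitMap a hΦ x c
  obtain ⟨L, _, _, _, g, hg⟩ := exists_rational_lift g₀
  let x' := bcPt L x
  let τ := (transl (bcA L a) g).hom
  have : IsIso τ.left := Basic.isIso_left _
  let φ := ((bcF L).map (a.orbitMap x))
  set c' := φ.left (g.left (IsLocalRing.closedPoint L)) with hc'
  have hτ : τ.left (x'.left (IsLocalRing.closedPoint L)) = c' := by
    rw [hc', ← Points.comp_apply, ← Points.comp_apply, point_transl, bcA_orbitMap]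
  have hp : proj L X (x'.left (IsLocalRing.closedPoint L)) = x.left (IsLocalRing.closedPoint K) :=
    proj_bcPt L x _
  have hpc : proj L X c' = c := by rw [hc', map_proj_apply, hg, hg₀]
  obtain ⟨ζ, hζmax, hζx, hpζ⟩ := exists_isMaxGen_lift L hc (hp.symm ▸ hcx)
  -- `ζ` specializes to both points, so is fixed by the translation
  have hirr := isIrreducible_preimage_closure (X := X) L c
  obtain ⟨θ, hθ⟩ := QuasiSober.sober hirr (isClosed_closure.preimage (proj L X).continuous)
  have hθζ : θ = ζ := hζmax θ (hθ.specializes (show proj L X ζ ∈ closure {c} from hpζ.symm ▸ subset_closure rfl))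
  have hζc : ζ ⤳ c' := hθζ ▸ hθ.specializes (show proj L X c' ∈ closure {c} from hpc.symm ▸ subset_closure rfl)
  have hmax : IsMaxGen (τ.left ζ) := fun w hw => by
    have h := hζmax (τ.left.homeomorph.symm w) (by
      have := hw.map τ.left.homeomorph.symm.continuous
      rwa [show τ.left ζ = τ.left.homeomorph ζ from rfl, Homeomorph.symm_apply_apply] at this)
    rw [← h]
    exact (τ.left.homeomorph.apply_symm_apply w).symm
  have hfix : τ.left ζ = ζ := uniqueComp (bcA L a) (isHomog_bcA L a hΦ) c' _ _ hmax hζmax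
    (hτ ▸ hζx.map τ.left.continuous) hζc
  -- a point over `(ζ, g₀)`
  obtain ⟨w, hw₁, hw₂⟩ := Scheme.exists_preimage_of_isPullback (isPullback_proj L (a.orbitMap x)) g₀ ζ
    (by rw [hg₀, hpζ])
  obtain ⟨d, hd, hdg⟩ := Component.exists_isMaxGen g₀
  let T := (Basic.translate g).hom
  have : IsIso T.left := Basic.isIso_left _
  have hD := (isIrreducible_preimage_closure (X := G) L d).image T.left.homeomorph.symm
    T.left.homeomorph.symm.continuous.continuousOn
  have hmemD : ∀ u, proj L G u = g₀ → u ∈ proj L G ⁻¹' closure {d} := fun u hu => by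
    show proj L G u ∈ closure {d}
    rw [hu]
    exact specializes_iff_mem_closure.mp hdg
  have hsub := subset_component hD ⟨_, hmemD _ hg, by
    rw [← translate_unit g]
    exact T.left.homeomorph.symm_apply_apply _⟩
  let z := T.left.homeomorph.symm w
  have hz : z ∈ irreducibleComponent (IdComponent.e₀ (bcL L G)) := hsub ⟨w, hmemD _ hw₁, rfl⟩
  have hφz : φ.left z = ζ := by
    have h1 : τ.left (φ.left z) = φ.left w := by
      rw [← Points.comp_apply]
      show (((bcF L).map (a.orbitMap x)) ≫ τ).left z = _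
      rw [← bcA_orbitMap, ← orbit_transl, Points.comp_apply, bcA_orbitMap]
      congr 1
      exact T.left.homeomorph.apply_symm_apply w
    exact τ.left.homeomorph.injective (h1.trans (hw₂.trans hfix.symm))
  refine ⟨proj L G z, subset_component
    (isIrreducible_irreducibleComponent.image _ (proj L G).continuous.continuousOn)
    ⟨_, mem_irreducibleComponent, Component.proj_unit L G⟩ ⟨z, hz, rfl⟩, ?_⟩
  rw [← map_proj_apply, hφz, hpζ]

/-- Every point is obtained from the generic point of its component by the identity component. -/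
theorem exists_act_eq (a : AlgGrp.Action G X) (hΦ : IsHomog a) {ξ y : X.left} (hξ : IsMaxGen ξ)
    (hy : ξ ⤳ y) : ∃ q : (G ⊗ X).left, (fst G X).left q ∈ irreducibleComponent (IdComponent.e₀ G) ∧
      (snd G X).left q = ξ ∧ a.act.left q = y := by
  obtain ⟨L, _, _, _, x, rfl⟩ := exists_rational_lift y
  obtain ⟨c, hc, hcx, rfl⟩ := exists_isMaxGen_lift L hξ hy
  obtain ⟨z, hz, hzc⟩ := exists_mem_component_rational (bcA L a) (isHomog_bcA L a hΦ) x hc hcx
  let m : bcL L G ⟶ bcL L G ⊗ bcL L X := lift ι[bcL L G] ((bcA L a).orbitMap x)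
  let P : (bcL L G ⊗ bcL L X).left ⟶ (G ⊗ X).left := (Functor.LaxMonoidal.μ (bcF L) G X).left ≫ proj L (G ⊗ X)
  have hfst : P ≫ (fst G X).left = (fst (bcL L G) (bcL L X)).left ≫ proj L G := by
    rw [Category.assoc, ← map_proj, ← Category.assoc, ← Over.comp_left, Functor.Monoidal.μ_fst]
  have hsnd : P ≫ (snd G X).left = (snd (bcL L G) (bcL L X)).left ≫ proj L X := by
    rw [Category.assoc, ← map_proj, ← Category.assoc, ← Over.comp_left, Functor.Monoidal.μ_snd]
  refine ⟨P (m.left z), ?_, ?_, ?_⟩
  · rw [← Scheme.Hom.comp_apply P, hfst, Scheme.Hom.comp_apply, ← Points.comp_apply, lift_fst]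
    refine subset_component ((isIrreducible_irreducibleComponent.image _
      ι[bcL L G].left.continuous.continuousOn).image _ (proj L G).continuous.continuousOn)
      ⟨_, ⟨_, mem_irreducibleComponent, ?_⟩, Component.proj_unit L G⟩ ⟨_, ⟨z, hz, rfl⟩, rfl⟩
    rw [IdComponent.e₀, ← Points.comp_apply,
      show η[bcL L G] ≫ ι[bcL L G] = η[bcL L G] by
        rw [← Hom.inv_def, show (η[bcL L G] : 𝟙_ _ ⟶ bcL L G) = 1 by
          rw [Hom.one_def, toUnit_unit, Category.id_comp], inv_one]]
  · rw [← Scheme.Hom.comp_apply P, hsnd, Scheme.Hom.comp_apply, ← Points.comp_apply, lift_snd, hzc]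
  · rw [← Scheme.Hom.comp_apply P, show P ≫ a.act.left = (bcA L a).act.left ≫ proj L X by
      rw [bcA_act_proj, Category.assoc], Scheme.Hom.comp_apply, ← Points.comp_apply]
    refine congrArg (proj L X) ?_
    have e : m ≫ (bcA L a).act = toUnit _ ≫ x := by
      have h1 : (bcA L a).orbitMap x = Basic.smul (bcA L a) (𝟙 _) (toUnit _ ≫ x) := rfl
      show Basic.smul (bcA L a) ι[bcL L G] ((bcA L a).orbitMap x) = _
      rw [h1, show ι[bcL L G] = (𝟙 (bcL L G))⁻¹ by rw [Hom.inv_def, Category.id_comp],
        Basic.inv_smul_smul']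
    rw [e, Points.comp_apply]
    exact congrArg x.left (Subsingleton.elim (α := Spec (CommRingCat.of L)) _ _)

end Groth.Agent.GrpSGA.Homog
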