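import Groth.Agent.GrpSGA.FibreCrit

/-!
# Kernels and the fibrewise criteria
-/

set_option autoImplicit false

universe u

open CategoryTheory MonoidalCategory CartesianMonoidalCategory MonObj GrpObj AlgebraicGeometry Limits
open Groth.Agent.GrpSGA.LocalProp Groth.Agent.GrpSGA.Fibre Groth.Agent.GrpSGA.FibreCrit

namespace Groth.Agent.GrpSGA.KernelCrit

variable {S : Scheme.{u}} {G H K : Over S} [GrpObj G] [GrpObj H] [GrpObj K] (u : G ⟶ H) [IsMonHom u]
  (i : K ⟶ G) [IsMonHom i]

omit [GrpObj G] [GrpObj K] [IsMonHom u] [IsMonHom i] in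
lemma isPullback_left (hK : AlgGrp.IsKernel i u) : IsPullback i.left K.hom u.left η[H].left :=
  hK.map (Over.forget S)

lemma map_unit (s : S) : i.left (η[K].left s) = η[G].left s := by
  have h : η[K] ≫ i = η[G] := IsMonHom.one_hom i
  exact ((Scheme.Hom.comp_apply _ _ _).symm).trans congr(($h).left s)

/-- If the kernel has the property, then so do all maps of fibres. -/
theorem forall_atPt {P : MorphismProperty Scheme.{u}} [P.IsStableUnderBaseChange]
    [IsZariskiLocalAtSource P] (hdesc : Desc (AtPt P) FlatFP)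
    (hG : ∀ s : S, LocallyOfFiniteType (G.hom.fiberToSpecResidueField s))
    (hfib : ∀ (s : S) (y : (fib G s).left), AtPt P (fibMap u s).left y → AtPt P u.left (fibι G s y))
    (hK : AlgGrp.IsKernel i u)
    (hdany : ∀ k : K.left, AtPt P K.hom k → AtPt P u.left (i.left k)) :
    (P u.left ↔ ∀ s : S, P (fibMap u s).left) ∧ (P u.left ↔ P K.hom) ∧
      (P u.left ↔ ∀ s : S, AtPt P K.hom (η[K].left s)) := by
  have hl := (locus_eq u bc_atPt hdesc hG hfib (P' := P) (fun s => mem_iff_forall _)
    (isOpen_setOf_atPt P u.left)).2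
  have h1 : (∀ s : S, P (fibMap u s).left) → P u.left := fun h => of_forall_atPt _ fun x => by
    have hx : x ∈ G.hom ⁻¹' {s : S | P (fibMap u s).left} := h _
    rwa [← hl] at hx
  have h2 : P u.left → ∀ s : S, P (fibMap u s).left := fun h s =>
    MorphismProperty.of_isPullback (isPullback_fibMap u s) h
  have h3 : P u.left → P K.hom := fun h => MorphismProperty.of_isPullback (isPullback_left u i hK) h
  have h4 : (∀ s : S, AtPt P K.hom (η[K].left s)) → P u.left := fun h => h1 fun s => by
    have hx := hdany _ (h s)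
    rw [map_unit] at hx
    have hx' : η[G].left s ∈ {x : G.left | AtPt P u.left x} := hx
    rw [hl] at hx'
    have e : G.hom (η[G].left s) = s := by rw [← Scheme.Hom.comp_apply, Over.w]; rfl
    exact e ▸ hx'
  exact ⟨⟨h2, h1⟩, ⟨h3, fun h => h4 fun s => atPt_of_mem _ h _⟩,
    ⟨fun h s => atPt_of_mem _ (h3 h) _, h4⟩⟩

end Groth.Agent.GrpSGA.KernelCrit
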