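import Groth.Agent.EtStruct.BaseChangeDescentScheme
import Groth.Agent.FlatOpen.FibreMapAt
import Groth.Agent.GrpdLib.FppfSourceDescentScheme
import Groth.Agent.GrpScheme.HomFlat
import Groth.Agent.Thick.Topo

/-!
# Properties of a morphism near a point and their descent along flat base changes
-/

set_option autoImplicit false

universe u

open CategoryTheory Limits AlgebraicGeometry MorphismProperty

namespace Groth.Agent.GrpSGA.LocalProp

/-- Pointwise properties of morphisms. -/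
abbrev PtProp : Type (u + 1) := ∀ ⦃X Y : Scheme.{u}⦄, (X ⟶ Y) → X → Prop

/-- `P` holds on a neighbourhood of `x`. -/
def AtPt (P : MorphismProperty Scheme.{u}) : PtProp.{u} :=
  fun X _ f x => ∃ W : X.Opens, x ∈ W ∧ P (W.ι ≫ f)

/-- Stability under base change. -/
def BC (Q : PtProp.{u}) : Prop :=
  ∀ ⦃X Y X' Y' : Scheme.{u}⦄ ⦃p : X' ⟶ X⦄ ⦃q : X' ⟶ Y'⦄ ⦃f : X ⟶ Y⦄ ⦃g : Y' ⟶ Y⦄,
    IsPullback p q f g → ∀ x', Q f (p x') → Q q x'

/-- Descent along base changes which have `R` near the point. -/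
def Desc (Q : PtProp.{u}) (R : MorphismProperty Scheme.{u}) : Prop :=
  ∀ ⦃X Y X' Y' : Scheme.{u}⦄ ⦃p : X' ⟶ X⦄ ⦃q : X' ⟶ Y'⦄ ⦃f : X ⟶ Y⦄ ⦃g : Y' ⟶ Y⦄,
    IsPullback p q f g → ∀ x', AtPt R g (q x') → Q q x' → Q f (p x')

section General

variable {P : MorphismProperty Scheme.{u}} {X Y : Scheme.{u}}

theorem bc_atPt [P.IsStableUnderBaseChange] : BC (AtPt P) :=
  fun _ _ _ _ _ _ _ _ sq x' h => FlatOpen.FibreMapAt.nhd_baseChange P sq x' h

theorem AtPt.mono {P' : MorphismProperty Scheme.{u}} (hle : P ≤ P') {f : X ⟶ Y} {x : X}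
    (h : AtPt P f x) : AtPt P' f x :=
  h.imp fun _ hW => ⟨hW.1, hle _ hW.2⟩

theorem atPt_of_mem (f : X ⟶ Y) (h : P f) (x : X) [IsZariskiLocalAtSource P] : AtPt P f x :=
  ⟨⊤, trivial, IsZariskiLocalAtSource.comp h _⟩

/-- A property holds as soon as it holds near every point. -/
theorem of_forall_atPt [IsZariskiLocalAtSource P] (f : X ⟶ Y) (h : ∀ x, AtPt P f x) : P f := by
  choose W hxW hW using h
  exact IsZariskiLocalAtSource.of_iSup_eq_top (P := P) W
    (eq_top_iff.mpr fun x _ => TopologicalSpace.Opens.mem_iSup.mpr ⟨x, hxW x⟩) hW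

theorem AtPt.of_restrict [P.RespectsIso] {f : X ⟶ Y} {U : X.Opens} {u : (U : Scheme.{u})}
    (h : AtPt P (U.ι ≫ f) u) : AtPt P f u.1 := by
  obtain ⟨V, hu, hV⟩ := h
  refine ⟨U.ι ''ᵁ V, ⟨u, hu, rfl⟩, ?_⟩
  rw [← P.cancel_left_of_respectsIso (Scheme.Hom.isoImage U.ι V).hom, ← Category.assoc]
  rw [show (Scheme.Hom.isoImage U.ι V).hom ≫ (U.ι ''ᵁ V).ι = V.ι ≫ U.ι from
    Scheme.Hom.isoImage_hom_ι _ _, Category.assoc]
  exact hV

theorem mem_stalk_of_atPt {f : X ⟶ Y} {x : X} {W : X.Opens} (hx : x ∈ W) [Flat (W.ι ≫ f)] :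
    (f.stalkMap x).hom.Flat :=
  (EtStruct.stalkMap_ι_comp_iff f RingHom.Flat.respectsIso W ⟨x, hx⟩).mp (Flat.stalkMap _ _)

end General

/-- A neighbourhood of a point of a base change whose image is open. -/
theorem exists_chart (R : MorphismProperty Scheme.{u}) [R.IsStableUnderBaseChange]
    [R.IsStableUnderComposition] [IsZariskiLocalAtSource R] (hR : R ≤ @UniversallyOpen)
    {X Y X' Y' : Scheme.{u}} {p : X' ⟶ X} {q : X' ⟶ Y'} {f : X ⟶ Y} {g : Y' ⟶ Y}
    (sq : IsPullback p q f g) (x' : X') (hg : AtPt R g (q x')) (W : X'.Opens) (hx : x' ∈ W) :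
    ∃ (V : X'.Opens) (U : X.Opens) (e : (V : Scheme.{u}) ⟶ U), x' ∈ V ∧ V ≤ W ∧ p x' ∈ U ∧
      Surjective e ∧ R e ∧ e ≫ U.ι = V.ι ≫ p ∧ R (V.ι ≫ p) ∧
      ∃ (O : Y'.Opens) (q₀ : (V : Scheme.{u}) ⟶ O), R (O.ι ≫ g) ∧ q₀ ≫ O.ι = V.ι ≫ q ∧ q x' ∈ O := by
  obtain ⟨O, hxO, hO⟩ := hg
  obtain ⟨Wp, hxWp, hWp⟩ := bc_atPt (P := R) sq.flip x' ⟨O, hxO, hO⟩
  let V : X'.Opens := W ⊓ (Wp ⊓ q ⁻¹ᵁ O)
  have hV : R (V.ι ≫ p) := by
    rw [← X'.homOfLE_ι (show V ≤ Wp from inf_le_right.trans inf_le_left), Category.assoc]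
    exact IsZariskiLocalAtSource.comp hWp _
  have hopen : UniversallyOpen (V.ι ≫ p) := hR _ hV
  let U : X.Opens := ⟨Set.range (V.ι ≫ p), (V.ι ≫ p).isOpenMap.isOpen_range⟩
  let e := IsOpenImmersion.lift U.ι (V.ι ≫ p) (by rw [Scheme.Opens.range_ι]; rfl)
  have hq : Set.range (V.ι ≫ q) ⊆ Set.range O.ι := by
    rintro _ ⟨v, rfl⟩
    rw [Scheme.Opens.range_ι]
    exact v.2.2.2
  refine ⟨V, U, e, ⟨hx, hxWp, hxO⟩, inf_le_left, ⟨⟨x', hx, hxWp, hxO⟩, rfl⟩, ⟨fun u => ?_⟩, ?_,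
    IsOpenImmersion.lift_fac _ _ _, hV, O, IsOpenImmersion.lift O.ι (V.ι ≫ q) hq, hO,
    IsOpenImmersion.lift_fac _ _ _, hxO⟩
  · obtain ⟨v, hv⟩ := u.2
    refine ⟨v, U.ι.isOpenEmbedding.injective ?_⟩
    rw [← Scheme.Hom.comp_apply, IsOpenImmersion.lift_fac, hv]
    rfl
  · refine Thick.Topo.of_comp_mono e U.ι ?_
    rw [IsOpenImmersion.lift_fac]
    exact hV

instance : IsZariskiLocalAtSource (@Flat ⊓ @LocallyOfFinitePresentation : MorphismProperty Scheme.{u}) :=
  haveI : IsZariskiLocalAtSource (@Flat : MorphismProperty Scheme.{u}) := inferInstance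
  haveI : IsZariskiLocalAtSource (@LocallyOfFinitePresentation : MorphismProperty Scheme.{u}) :=
    inferInstance
  MorphismProperty.IsLocalAtSource.inf (K := Scheme.zariskiPrecoverage) _ _

/-- Flat and locally of finite presentation. -/
abbrev FlatFP : MorphismProperty Scheme.{u} := @Flat ⊓ @LocallyOfFinitePresentation

lemma flatFP_le : FlatFP.{u} ≤ @UniversallyOpen := fun _ _ f h => by
  have := h.1; have := h.2; infer_instance

/-- Flatness of the stalk map. -/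
abbrev flatAt : PtProp.{u} := fun _ _ f x => (f.stalkMap x).hom.Flat

theorem bc_flatAt : BC flatAt.{u} := by
  intro X Y X' Y' p q f g sq x' h
  let ρ := X.fromSpecStalk (p x')
  have : Flat ρ := GrpScheme.HomFlat.flat_fromSpecStalk _
  have hρf : Flat (ρ ≫ f) := by
    rw [← Scheme.SpecMap_stalkMap_fromSpecStalk f]
    have : Flat (Spec.map (f.stalkMap (p x'))) := by
      rw [HasRingHomProperty.Spec_iff (P := @Flat)]; exact h
    exact MorphismProperty.comp_mem @Flat _ _ this (GrpScheme.HomFlat.flat_fromSpecStalk _)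
  have hy : p x' = ρ (IsLocalRing.closedPoint (X.presheaf.stalk (p x'))) :=
    (Scheme.fromSpecStalk_closedPoint).symm
  obtain ⟨z, hz, -⟩ := Scheme.Pullback.exists_preimage_pullback (f := p) (g := ρ) _ _ hy
  have : Flat (pullback.fst p ρ) := MorphismProperty.pullback_fst _ _ ‹Flat ρ›
  have hc := (IsPullback.of_hasPullback p ρ).paste_horiz sq.flip
  have : Flat (pullback.fst p ρ ≫ q) := MorphismProperty.of_isPullback hc.flip hρf
  have := Thick.FlatCancel.flat_stalkMap_of_comp (pullback.fst p ρ) q z (Flat.stalkMap _ _)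
    (Flat.stalkMap _ _)
  rwa [hz] at this

theorem desc_flatAt : Desc flatAt.{u} @Flat := by
  intro X Y X' Y' p q f g sq x' hg h
  have hg' : (g.stalkMap (q x')).hom.Flat := by
    obtain ⟨W, hW, hfl⟩ := hg
    exact mem_stalk_of_atPt hW
  have hp : (p.stalkMap x').hom.Flat := bc_flatAt sq.flip x' hg'
  have hpf : ((p ≫ f).stalkMap x').hom.Flat := by
    rw [sq.w]; exact GrpScheme.HomFlat.flatAt_comp q g x' h hg'
  exact Thick.FlatCancel.flat_stalkMap_of_comp p f x' hp hpf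

theorem desc_universallyOpen : Desc (AtPt @UniversallyOpen) @UniversallyOpen := by
  rintro X Y X' Y' p q f g sq x' hg ⟨W, hxW, hW⟩
  obtain ⟨V, U, e, hxV, hVW, hxU, he, -, hfac, -, O, q₀, hO, hq₀, -⟩ :=
    exists_chart @UniversallyOpen le_rfl sq x' hg W hxW
  refine ⟨U, hxU, ?_⟩
  have : UniversallyOpen (q₀ ≫ O.ι) := by
    rw [hq₀, ← X'.homOfLE_ι hVW, Category.assoc]
    exact MorphismProperty.comp_mem _ _ _ inferInstance hW
  have : UniversallyOpen q₀ := Thick.Topo.of_comp_mono q₀ O.ι this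
  have : UniversallyOpen (e ≫ U.ι ≫ f) := by
    rw [← Category.assoc, hfac, Category.assoc, sq.w, ← Category.assoc, ← hq₀, Category.assoc]
    exact MorphismProperty.comp_mem _ _ _ this hO
  exact Thick.Topo.universallyOpen_of_comp_surjective e (U.ι ≫ f)

/-- Descent of a property which can be cancelled on the left by fppf covers. -/
theorem desc_of_comp_fppf {P : MorphismProperty Scheme.{u}} [P.IsStableUnderComposition]
    [P.IsStableUnderBaseChange] [IsZariskiLocalAtSource P] (hP : FlatFP ≤ P)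
    (hcancel : ∀ {X Y Z : Scheme.{u}} (e : X ⟶ Y) (h : Y ⟶ Z) [Flat e] [LocallyOfFinitePresentation e]
      [Surjective e], P (e ≫ h) → P h) : Desc (AtPt P) FlatFP := by
  rintro X Y X' Y' p q f g sq x' hg ⟨W, hxW, hW⟩
  obtain ⟨V, U, e, hxV, hVW, hxU, he, hRe, hfac, -, O, q₀, hO, hq₀, -⟩ :=
    exists_chart FlatFP flatFP_le sq x' hg W hxW
  have := hRe.1
  have := hRe.2
  refine ⟨U, hxU, hcancel e (U.ι ≫ f) ?_⟩
  have h0 : P (q₀ ≫ O.ι) := by
    rw [hq₀, ← X'.homOfLE_ι hVW, Category.assoc]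
    exact IsZariskiLocalAtSource.comp hW _
  rw [← Category.assoc, hfac, Category.assoc, sq.w, ← Category.assoc, ← hq₀, Category.assoc]
  exact MorphismProperty.comp_mem _ _ _ (Thick.Topo.of_comp_mono q₀ O.ι h0) (hP _ hO)

theorem desc_lft : Desc (AtPt @LocallyOfFiniteType) FlatFP.{u} :=
  desc_of_comp_fppf (fun _ _ f h => by have := h.2; infer_instance) fun e h _ _ _ hc =>
    GrpdLib.FppfSourceDescent.locallyOfFiniteType_of_comp_fppf e h

theorem desc_lfp : Desc (AtPt @LocallyOfFinitePresentation) FlatFP.{u} :=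
  desc_of_comp_fppf (fun _ _ _ h => h.2) fun e h _ _ _ hc =>
    GrpdLib.FppfSourceDescent.locallyOfFinitePresentation_of_comp_fppf e h

theorem desc_flatFP : Desc (AtPt FlatFP.{u}) FlatFP := by
  refine desc_of_comp_fppf le_rfl fun e h _ _ _ hc => ?_
  have := hc.1
  have := hc.2
  exact ⟨Thick.FlatCancel.flat_of_comp e h,
    GrpdLib.FppfSourceDescent.locallyOfFinitePresentation_of_comp_fppf e h⟩

/-- Reduction of descent to the case where the morphism is locally of finite presentation. -/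
theorem desc_of_lfp {P : MorphismProperty Scheme.{u}} [IsZariskiLocalAtSource P]
    (hP : P ≤ @LocallyOfFinitePresentation)
    (h : ∀ ⦃X Y X' Y' : Scheme.{u}⦄ ⦃p : X' ⟶ X⦄ ⦃q : X' ⟶ Y'⦄ ⦃f : X ⟶ Y⦄ ⦃g : Y' ⟶ Y⦄,
      IsPullback p q f g → LocallyOfFinitePresentation f → ∀ x', (g.stalkMap (q x')).hom.Flat →
        AtPt P q x' → AtPt P f (p x')) : Desc (AtPt P) FlatFP := by
  intro X Y X' Y' p q f g sq x' hg hq
  obtain ⟨U, hxU, hU⟩ := desc_lfp sq x' hg (hq.mono hP)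
  have hg' : (g.stalkMap (q x')).hom.Flat := by
    obtain ⟨O, hxO, hO⟩ := hg
    have := hO.1
    exact mem_stalk_of_atPt hxO
  obtain ⟨W, hxW, hW⟩ := hq
  have key := h ((isPullback_morphismRestrict p U).paste_vert sq) hU ⟨x', hxU⟩
    ((show ∀ y, y = q x' → (g.stalkMap y).hom.Flat from fun y hy => hy ▸ hg') _
      (Scheme.Hom.comp_apply _ _ _)) ⟨(p ⁻¹ᵁ U).ι ⁻¹ᵁ W, hxW, by
      rw [← morphismRestrict_ι_assoc]
      exact IsZariskiLocalAtSource.comp hW _⟩
  have e : ((p ∣_ U) ⟨x', hxU⟩).1 = p x' := by rw [morphismRestrict_base]; rfl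
  rw [← e]
  exact key.of_restrict

theorem desc_smooth : Desc (AtPt @Smooth) FlatFP.{u} :=
  desc_of_lfp (fun _ _ f h => by have : Smooth f := h; infer_instance)
    fun _ _ _ _ _ _ _ _ sq hf x' hg hq =>
      have := hf
      EtStruct.smooth_nhd_of_baseChange sq x' hg hq

theorem desc_etale : Desc (AtPt @Etale) FlatFP.{u} :=
  desc_of_lfp (fun _ _ f h => by have : Etale f := h; infer_instance)
    fun _ _ _ _ _ _ _ _ sq hf x' hg hq =>
      have := hf
      EtStruct.etale_nhd_of_baseChange sq x' hg hq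

/-- Formally unramified and locally of finite presentation. -/
abbrev UnramFP : MorphismProperty Scheme.{u} := @FormallyUnramified ⊓ @LocallyOfFinitePresentation

instance : IsZariskiLocalAtSource UnramFP.{u} :=
  haveI : IsZariskiLocalAtSource (@FormallyUnramified : MorphismProperty Scheme.{u}) := inferInstance
  haveI : IsZariskiLocalAtSource (@LocallyOfFinitePresentation : MorphismProperty Scheme.{u}) :=
    inferInstance
  MorphismProperty.IsLocalAtSource.inf (K := Scheme.zariskiPrecoverage) _ _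

theorem desc_unramified_lft {X Y X' Y' : Scheme.{u}} {p : X' ⟶ X} {q : X' ⟶ Y'} {f : X ⟶ Y}
    {g : Y' ⟶ Y} [LocallyOfFiniteType f] (sq : IsPullback p q f g) (x' : X')
    (hg : (g.stalkMap (q x')).hom.Flat) (h : AtPt @FormallyUnramified q x') :
    AtPt @FormallyUnramified f (p x') := by
  obtain ⟨X'', Y'', p'', q'', g'', x'', hx, sq', _, h'⟩ :=
    EtStruct.exists_flat_nhd @FormallyUnramified sq x' hg h
  have : LocallyOfFiniteType q'' :=
    MorphismProperty.of_isPullback sq' ‹LocallyOfFiniteType f›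
  unfold AtPt
  rw [← hx, EtStruct.formallyUnramified_nhd_iff]
  exact (EtStruct.stalkMap_descent_of_flat sq' x'').2 ((EtStruct.formallyUnramified_nhd_iff q'' x'').mp h')

theorem desc_unramFP : Desc (AtPt UnramFP.{u}) FlatFP :=
  desc_of_lfp (fun _ _ _ h => h.2) fun X _ _ _ p _ f _ sq hf x' hg hq => by
    have := hf
    obtain ⟨U, hxU, hU⟩ := desc_unramified_lft sq x' hg (hq.mono inf_le_left)
    exact ⟨U, hxU, hU, inferInstance⟩

end Groth.Agent.GrpSGA.LocalProp
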