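import Groth.Agent.GrpSGA.Fibre
import Groth.Agent.GrpSGA.FieldComp

/-!
# The union of the neutral components is stable under the group law
-/

set_option autoImplicit false

universe u

open CategoryTheory MonoidalCategory CartesianMonoidalCategory MonObj GrpObj AlgebraicGeometry Limits
open Groth.Agent.GrpScheme

namespace Groth.Agent.GrpSGA.Neutral

open Fibre

variable {S : Scheme.{u}} {G T : Over S} (z : T.left)

/-- The spectrum of the residue field at a point, over the residue field below it. -/
noncomputable abbrev ptOver : Over (Spec (CommRingCat.of (S.residueField (T.hom z)))) :=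
  Over.mk (Spec.map (T.hom.residueFieldMap z))

/-- The point, as a morphism over the base. -/
noncomputable def ptHom : (Over.map (S.fromSpecResidueField (T.hom z))).obj (ptOver z) ⟶ T :=
  Over.homMk (T.left.fromSpecResidueField z)
    (Scheme.Hom.SpecMap_residueFieldMap_fromSpecResidueField T.hom z).symm

/-- Restriction of a point to the residue field at `z`, as a point of the fibre. -/
noncomputable def res (a : T ⟶ G) : ptOver z ⟶ fib G (T.hom z) :=
  (Over.mapPullbackAdj (S.fromSpecResidueField (T.hom z))).unit.app (ptOver z) ≫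
    (Over.pullback (S.fromSpecResidueField (T.hom z))).map (ptHom z ≫ a)

lemma res_mul [GrpObj G] (a b : T ⟶ G) : res z (a * b) = res z a * res z b := by
  rw [res, MonObj.comp_mul, Functor.map_mul, MonObj.comp_mul]
  rfl

lemma res_inv [GrpObj G] (a : T ⟶ G) : res z a⁻¹ = (res z a)⁻¹ := by
  have h1 : res z (1 : T ⟶ G) = 1 := by
    have := res_mul z (1 : T ⟶ G) 1
    rwa [_root_.one_mul, left_eq_mul] at this
  rw [eq_inv_iff_mul_eq_one, ← res_mul, inv_mul_cancel, h1]

lemma fibι_res (a : T ⟶ G) (p : (ptOver z).left) : fibι G (T.hom z) ((res z a).left p) = a.left z := by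
  have e : (res z a).left ≫ fibι G (T.hom z) = T.left.fromSpecResidueField z ≫ a.left := by
    rw [res, Over.comp_left, Category.assoc]
    have h1 : ((Over.pullback (S.fromSpecResidueField (T.hom z))).map (ptHom z ≫ a)).left ≫
        fibι G (T.hom z) = pullback.fst _ _ ≫ (ptHom z ≫ a).left := pullback.lift_fst _ _ _
    rw [h1, Over.comp_left, ← Category.assoc, ← Category.assoc]
    congr 1
    erw [Over.mapPullbackAdj_unit_app]
    simp [ptHom]
    erw [pullback.lift_fst_assoc, Category.id_comp]
  rw [← Scheme.Hom.comp_apply, e, Scheme.Hom.comp_apply]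
  exact congrArg _ (Scheme.fromSpecResidueField_apply z p)

lemma res_range_iff [GrpObj G] (a : T ⟶ G) :
    Set.range (res z a).left ⊆ connectedComponent (IdComponent.e₀ (fib G (T.hom z))) ↔
      a.left z ∈ SGA3x.neutralSet G := by
  obtain ⟨p⟩ : Nonempty (ptOver z).left := inferInstanceAs (Nonempty ↥(Spec (T.left.residueField z)))
  constructor
  · intro h
    rw [← fibι_res z a p, mem_neutralSet_iff]
    exact h ⟨p, rfl⟩
  · rintro h _ ⟨q, rfl⟩
    rwa [← fibι_res z a q, mem_neutralSet_iff] at h

variable [GrpObj G]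

theorem mul_mem (a b : T ⟶ G) (ha : a.left z ∈ SGA3x.neutralSet G) (hb : b.left z ∈ SGA3x.neutralSet G) :
    (a * b).left z ∈ SGA3x.neutralSet G := by
  rw [← res_range_iff] at ha hb ⊢
  rw [res_mul]
  exact IdSubgroup.mul_mem _ _ _ ha hb

theorem inv_mem (a : T ⟶ G) (ha : a.left z ∈ SGA3x.neutralSet G) :
    (a⁻¹).left z ∈ SGA3x.neutralSet G := by
  rw [← res_range_iff] at ha ⊢
  rw [res_inv]
  rintro _ ⟨p, rfl⟩
  rw [Points.inv_left_apply]
  exact IdSubgroup.inv_mem _ (ha ⟨p, rfl⟩)

theorem conj_mem (g n : T ⟶ G) (hn : n.left z ∈ SGA3x.neutralSet G) :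
    (g * n * g⁻¹).left z ∈ SGA3x.neutralSet G := by
  rw [← res_range_iff] at hn ⊢
  rw [res_mul, res_mul, res_inv]
  exact FieldComp.conj_mem _ _ _ hn

end Groth.Agent.GrpSGA.Neutral
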