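import Groth.Agent.GrpSGA.Fibre
import Groth.Agent.GrpSGA.FibreCrit
import Groth.Agent.GrpScheme.IdSubgroup
import Groth.Agent.GrpScheme.Points

/-!
# Neutral components and open neighbourhoods of the unit section
-/

set_option autoImplicit false

universe u

open CategoryTheory MonoidalCategory CartesianMonoidalCategory MonObj GrpObj AlgebraicGeometry Limits
open Groth.Agent.GrpScheme Groth.Agent.GrpSGA.Fibre

namespace Groth.Agent.GrpSGA.NeutralCompact

variable {S : Scheme.{u}} (G : Over S) [GrpObj G]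

/-- The neutral component is contained in `U * U` for every open `U` containing the unit section. -/
theorem exists_mul (U : G.left.Opens) {x : G.left} (hU : η[G].left (G.hom x) ∈ U)
    (hx : x ∈ SGA3x.neutralSet G) :
    ∃ p : (G ⊗ G).left, (fst G G).left p ∈ U ∧ (snd G G).left p ∈ U ∧ μ[G].left p = x := by
  obtain ⟨y, hy⟩ := exists_mem_fib G (x := x) (s := G.hom x) rfl
  generalize G.hom x = s at y hy hU
  subst hy
  rw [mem_neutralSet_iff] at hx
  let U' : (fib G s).left.Opens := fibι G s ⁻¹ᵁ U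
  have heU : IdComponent.e₀ (fib G s) ∈ U' := by
    show fibι G s (IdComponent.e₀ (fib G s)) ∈ U
    rw [fibι_unit]; exact hU
  let j := IdSubgroup.incl (fib G s)
  let U₀ : (IdSubgroup.G₀ (fib G s)).left.Opens := j.left ⁻¹ᵁ U'
  rw [← IdSubgroup.range_incl] at hx
  obtain ⟨y₀, rfl⟩ := hx
  have hne : (U₀ : Set (IdSubgroup.G₀ (fib G s)).left).Nonempty := by
    obtain ⟨e, he⟩ := (IdSubgroup.range_incl (fib G s)).ge mem_connectedComponent
    exact ⟨e, show j.left e ∈ U' from he.symm ▸ heU⟩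
  obtain ⟨p₀, h₁, h₂, h₃⟩ := Points.mul_opens_surjective U₀ U₀ hne hne y₀
  let F := Over.pullback (S.fromSpecResidueField s)
  let q : (fib G s ⊗ fib G s).left ⟶ (G ⊗ G).left :=
    (Functor.LaxMonoidal.μ F G G).left ≫ pullback.fst (G ⊗ G).hom (S.fromSpecResidueField s)
  have hq : ∀ (f : G ⊗ G ⟶ G), q ≫ f.left = (Functor.LaxMonoidal.μ F G G ≫ F.map f).left ≫ fibι G s :=
    fun f => by
      have h : (F.map f).left ≫ fibι G s = pullback.fst _ _ ≫ f.left := pullback.lift_fst _ _ _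
      simp only [Over.comp_left, Category.assoc, q]
      erw [h]
  let p₁ := (j ⊗ₘ j).left p₀
  refine ⟨q p₁, ?_, ?_, ?_⟩
  · rw [← Scheme.Hom.comp_apply, hq, Functor.Monoidal.μ_fst, Scheme.Hom.comp_apply, ← Points.comp_apply,
      tensorHom_fst, Points.comp_apply]
    exact h₁
  · rw [← Scheme.Hom.comp_apply, hq, Functor.Monoidal.μ_snd, Scheme.Hom.comp_apply, ← Points.comp_apply,
      tensorHom_snd, Points.comp_apply]
    exact h₂
  · rw [← Scheme.Hom.comp_apply, hq, Scheme.Hom.comp_apply]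
    congr 1
    rw [← Functor.obj.μ_def, ← h₃, ← Points.comp_apply, ← Points.comp_apply]
    exact congr(($((IsMonHom.mul_hom j).symm)).left p₀)

/-- Over a quasi-separated quasi-compact open of the base the neutral components lie in a quasi-compact
set. -/
theorem exists_compact {V : Scheme.{u}} (v : V ⟶ S) [IsOpenImmersion v] [QuasiSeparatedSpace V]
    [CompactSpace V] :
    ∃ K : Set G.left, IsCompact K ∧ SGA3x.neutralSet G ∩ G.hom ⁻¹' Set.range v ⊆ K ∧
      K ⊆ G.hom ⁻¹' Set.range v := by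
  let Vo : S.Opens := v.opensRange
  have hc : IsCompact (η[G].left '' Set.range v) := (isCompact_range v.continuous).image η[G].left.continuous
  have hsub : η[G].left '' Set.range v ⊆ (G.hom ⁻¹ᵁ Vo : G.left.Opens) := by
    rintro _ ⟨_, ⟨a, rfl⟩, rfl⟩
    show G.hom (η[G].left (v a)) ∈ Set.range v
    rw [← Scheme.Hom.comp_apply _ G.hom, Over.w]
    exact ⟨a, rfl⟩
  have key : ∀ y : η[G].left '' Set.range v, ∃ A : G.left.Opens, IsAffineOpen A ∧ y.1 ∈ A ∧
      A ≤ G.hom ⁻¹ᵁ Vo := fun y => by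
    obtain ⟨_, ⟨A, hA, rfl⟩, hyA, hAV⟩ := G.left.isBasis_affineOpens.exists_subset_of_mem_open
      (hsub y.2) (G.hom ⁻¹ᵁ Vo).2
    exact ⟨A, hA, hyA, hAV⟩
  choose A hA hyA hAV using key
  obtain ⟨t, ht⟩ := hc.elim_finite_subcover (fun y => (A y : Set G.left)) (fun y => (A y).2)
    fun y hy => Set.mem_iUnion.mpr ⟨⟨y, hy⟩, hyA _⟩
  let U : G.left.Opens := ⨆ y ∈ t, A y
  have hUc : IsCompact (U : Set G.left) := by
    simp only [U, TopologicalSpace.Opens.coe_iSup]
    exact t.isCompact_biUnion fun y _ => (hA y).isCompact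
  have : CompactSpace (U : Scheme.{u}) := isCompact_iff_compactSpace.mp hUc
  have hUV : Set.range (U.ι ≫ G.hom) ⊆ Set.range v := by
    rintro _ ⟨z, rfl⟩
    obtain ⟨y, hy⟩ := TopologicalSpace.Opens.mem_iSup.mp z.2
    obtain ⟨hyt, hy⟩ := TopologicalSpace.Opens.mem_iSup.mp hy
    exact hAV y hy
  let h' := IsOpenImmersion.lift v (U.ι ≫ G.hom) hUV
  have hh : h' ≫ v = U.ι ≫ G.hom := IsOpenImmersion.lift_fac _ _ _
  have : CompactSpace ↥(pullback h' h') :=
    QuasiCompact.compactSpace_of_compactSpace (pullback.fst h' h')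
  let j : pullback h' h' ⟶ (G ⊗ G).left := pullback.map h' h' G.hom G.hom U.ι U.ι v hh hh
  refine ⟨Set.range (j ≫ μ[G].left), isCompact_range (j ≫ μ[G].left).continuous, ?_, ?_⟩
  · rintro x ⟨hx, hxV⟩
    have hxU : η[G].left (G.hom x) ∈ U := by
      have hmem : η[G].left (G.hom x) ∈ η[G].left '' Set.range v := ⟨_, hxV, rfl⟩
      obtain ⟨y, hy, hyA⟩ := Set.mem_iUnion₂.mp (ht hmem)
      exact TopologicalSpace.Opens.mem_iSup.mpr ⟨y, TopologicalSpace.Opens.mem_iSup.mpr ⟨hy, hyA⟩⟩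
    obtain ⟨p, hp₁, hp₂, hp₃⟩ := exists_mul G U hxU hx
    obtain ⟨z, hz⟩ : p ∈ Set.range j := by
      rw [show Set.range j = _ from Scheme.Pullback.range_map ..]
      exact ⟨by rw [Scheme.Opens.range_ι]; exact hp₁, by rw [Scheme.Opens.range_ι]; exact hp₂⟩
    exact ⟨z, by rw [Scheme.Hom.comp_apply, hz, hp₃]⟩
  · rintro _ ⟨z, rfl⟩
    have hw : (j ≫ μ[G].left) ≫ G.hom = (pullback.fst h' h' ≫ h') ≫ v := by
      rw [Category.assoc, Over.w μ[G], Category.assoc, hh, ← Category.assoc (pullback.fst h' h')]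
      show j ≫ pullback.fst G.hom G.hom ≫ G.hom = _
      rw [← Category.assoc, pullback.lift_fst]
    show G.hom _ ∈ Set.range v
    rw [← Scheme.Hom.comp_apply (j ≫ μ[G].left) G.hom, hw, Scheme.Hom.comp_apply]
    exact ⟨_, rfl⟩

end Groth.Agent.GrpSGA.NeutralCompact
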