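import Groth.Agent.GrpSGA.NeutralCompact
import Groth.Agent.GrpSGA.Neutral
import Groth.Agent.SecComp.Constructible
import Groth.Agent.ProConsPre.Basic
import Groth.Prelude.Def_ProCons

/-!
# Constructibility of the union of the neutral components
-/

set_option autoImplicit false

universe u

open CategoryTheory MonoidalCategory CartesianMonoidalCategory MonObj GrpObj AlgebraicGeometry Limits Topology
open Groth.Agent.GrpScheme Groth.Agent.GrpSGA.Fibre

namespace Groth.Agent.GrpSGA.NeutralCons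

variable {S : Scheme.{u}} (G : Over S) [GrpObj G]

/-- The unit section. -/
noncomputable abbrev unitSec : S ⟶ G.left := η[G].left

lemma hom_unitSec (t : S) : G.hom (unitSec G t) = t := by
  rw [← Scheme.Hom.comp_apply, show unitSec G ≫ G.hom = 𝟙 S from Over.w η[G]]
  rfl

lemma mem_neutralSet {x : G.left} : x ∈ SGA3x.neutralSet G ↔
    x ∈ connectedComponentIn (G.hom ⁻¹' {G.hom x}) (unitSec G (G.hom x)) := by
  refine Set.mem_iUnion.trans ⟨?_, fun h => ⟨G.hom x, h⟩⟩
  rintro ⟨p, hp⟩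
  have hxp : G.hom x = (𝟙_ (Over S)).hom p :=
    connectedComponentIn_subset (G.hom ⁻¹' {(𝟙_ (Over S)).hom p}) _ hp
  rw [hxp]
  exact hp

lemma unitSec_mem (t : S) : unitSec G t ∈ SGA3x.neutralSet G := by
  rw [mem_neutralSet, hom_unitSec]
  exact mem_connectedComponentIn (hom_unitSec G t)

lemma connected_eq {x : G.left} {s : S} (h : G.hom x = s) :
    x ∈ SGA3x.neutralSet G ↔ x ∈ connectedComponentIn (G.hom ⁻¹' {s}) (unitSec G s) := by
  rw [mem_neutralSet, h]

section Rel

variable (U : G.left.Opens) (V : S.Opens) (hle : U ≤ G.hom ⁻¹ᵁ V) (he : V ≤ unitSec G ⁻¹ᵁ U)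

/-- The section components of the structure map of an open around the units. -/
noncomputable def comps : Set (U : Scheme.{u}) :=
  MoreMor.sectionComponents (G.hom.resLE V U hle) ((unitSec G).resLE U V he)

lemma resLE_hom_ι (z : (U : Scheme.{u})) : V.ι (G.hom.resLE V U hle z) = G.hom (U.ι z) := by
  rw [← Scheme.Hom.comp_apply, Scheme.Hom.resLE_comp_ι, Scheme.Hom.comp_apply]

lemma resLE_unit_ι (t : (V : Scheme.{u})) : U.ι ((unitSec G).resLE U V he t) = unitSec G (V.ι t) := by
  rw [← Scheme.Hom.comp_apply, Scheme.Hom.resLE_comp_ι, Scheme.Hom.comp_apply]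

lemma section_comp : (unitSec G).resLE U V he ≫ G.hom.resLE V U hle = 𝟙 _ := by
  rw [← cancel_mono V.ι, Category.assoc, Scheme.Hom.resLE_comp_ι, Scheme.Hom.resLE_comp_ι_assoc,
    show unitSec G ≫ G.hom = 𝟙 S from Over.w η[G], Category.comp_id, Category.id_comp]

lemma comps_subset : U.ι '' comps G U V hle he ⊆ SGA3x.neutralSet G := by
  rintro _ ⟨z, hz, rfl⟩
  rw [mem_neutralSet]
  have hsec := section_comp G U V hle he
  have hmem : (unitSec G).resLE U V he (G.hom.resLE V U hle z) ∈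
      G.hom.resLE V U hle ⁻¹' {G.hom.resLE V U hle z} := by
    show G.hom.resLE V U hle _ = _
    rw [← Scheme.Hom.comp_apply, hsec]
    rfl
  refine (isPreconnected_connectedComponentIn.image _ U.ι.continuous.continuousOn).subset_connectedComponentIn
    ⟨_, mem_connectedComponentIn hmem, ?_⟩ ?_ ⟨z, hz, rfl⟩
  · rw [resLE_unit_ι, resLE_hom_ι]
  · rintro _ ⟨w, hw, rfl⟩
    have h : G.hom.resLE V U hle w = G.hom.resLE V U hle z :=
      connectedComponentIn_subset (G.hom.resLE V U hle ⁻¹' {G.hom.resLE V U hle z}) _ hw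
    show G.hom (U.ι w) = G.hom (U.ι z)
    rw [← resLE_hom_ι G U V hle, ← resLE_hom_ι G U V hle, h]

lemma mem_comps {C : Set G.left} (hC : _root_.IsPreconnected C) {s : S} (hCU : C ⊆ U)
    (hCs : C ⊆ G.hom ⁻¹' {s}) (hCe : unitSec G s ∈ C) {x : G.left} (hx : x ∈ C) :
    x ∈ U.ι '' comps G U V hle he := by
  refine ⟨⟨x, hCU hx⟩, ?_, rfl⟩
  have hxs : V.ι (G.hom.resLE V U hle ⟨x, hCU hx⟩) = s := by
    rw [resLE_hom_ι]
    exact hCs hx
  have hpre : _root_.IsPreconnected (U.ι ⁻¹' C) := by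
    rw [← U.ι.isOpenEmbedding.isInducing.isPreconnected_image, Set.image_preimage_eq_of_subset]
    · exact hC
    · rw [Scheme.Opens.range_ι]
      exact hCU
  refine hpre.subset_connectedComponentIn ?_ ?_ hx
  · show U.ι _ ∈ C
    rw [resLE_unit_ι, hxs]
    exact hCe
  · intro w hw
    refine V.ι.isOpenEmbedding.injective ?_
    rw [hxs, resLE_hom_ι]
    exact hCs hw

end Rel

variable [LocallyOfFinitePresentation G.hom]

/-- Over a quasi-compact quasi-separated open of the base the neutral components form a constructible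
set, when the group is quasi-separated. -/
theorem isConstructible_over [QuasiSeparated G.hom] (V : S.Opens) [CompactSpace V.toScheme]
    [QuasiSeparatedSpace V.toScheme] :
    IsConstructible ((G.hom ⁻¹ᵁ V).ι ⁻¹' SGA3x.neutralSet G) := by
  obtain ⟨K, hK, hNK, hKV⟩ := NeutralCompact.exists_compact G V.ι
  have key : ∀ y : K, ∃ A : G.left.Opens, IsAffineOpen A ∧ y.1 ∈ A ∧ A ≤ G.hom ⁻¹ᵁ V := fun y => by
    have hy : G.hom y.1 ∈ V := by
      have := hKV y.2
      rwa [Scheme.Opens.range_ι] at this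
    obtain ⟨_, ⟨A, hA, rfl⟩, hyA, hAV⟩ :=
      G.left.isBasis_affineOpens.exists_subset_of_mem_open hy (G.hom ⁻¹ᵁ V).2
    exact ⟨A, hA, hyA, hAV⟩
  choose A hA hyA hAV using key
  obtain ⟨t, ht⟩ := hK.elim_finite_subcover (fun y => (A y : Set G.left)) (fun y => (A y).2)
    fun y hy => Set.mem_iUnion.mpr ⟨⟨y, hy⟩, hyA _⟩
  let W : G.left.Opens := ⨆ y ∈ t, A y
  have hWc : IsCompact (W : Set G.left) := by
    simp only [W, TopologicalSpace.Opens.coe_iSup]
    exact t.isCompact_biUnion fun y _ => (hA y).isCompact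
  have hWV : W ≤ G.hom ⁻¹ᵁ V := iSup₂_le fun y _ => hAV y
  have hNW : SGA3x.neutralSet G ∩ G.hom ⁻¹' V ⊆ W := fun x hx => by
    obtain ⟨y, hy, hxy⟩ := Set.mem_iUnion₂.mp (ht (hNK (by rwa [Scheme.Opens.range_ι])))
    exact TopologicalSpace.Opens.mem_iSup.mpr ⟨y, TopologicalSpace.Opens.mem_iSup.mpr ⟨hy, hxy⟩⟩
  have he : V ≤ unitSec G ⁻¹ᵁ W := fun t ht =>
    hNW ⟨unitSec_mem G t, by show G.hom (unitSec G t) ∈ V; rwa [hom_unitSec]⟩
  have : CompactSpace W.toScheme := isCompact_iff_compactSpace.mp hWc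
  let f' := G.hom.resLE V W hWV
  have : LocallyOfFinitePresentation f' := by
    have : LocallyOfFinitePresentation (f' ≫ V.ι) := by
      rw [Scheme.Hom.resLE_comp_ι]; infer_instance
    exact Thick.Topo.of_comp_mono f' V.ι this
  have : QuasiSeparated f' := by
    have : QuasiSeparated (f' ≫ V.ι) := by
      rw [Scheme.Hom.resLE_comp_ι]; infer_instance
    exact QuasiSeparated.of_comp f' V.ι
  have : QuasiCompact f' := quasiCompact_of_compactSpace f'
  have hcons : IsConstructible (comps G W V hWV he) := by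
    have : QuasiSeparatedSpace W.toScheme := quasiSeparatedSpace_of_quasiSeparated f'
    exact (SecComp.isLocallyConstructible_sectionComponents f' _ (section_comp G W V hWV he)).isConstructible
  have hGV : QuasiSeparatedSpace (G.hom ⁻¹ᵁ V).toScheme := quasiSeparatedSpace_of_quasiSeparated (G.hom ∣_ V)
  let j := G.left.homOfLE hWV
  have hr : IsRetrocompact (Set.range j) :=
    fun O hOc hOo => hGV.inter_isCompact _ O j.isOpenEmbedding.isOpen_range
      (isCompact_range j.continuous) hOo hOc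
  convert hcons.image_of_isOpenEmbedding j.isOpenEmbedding hr using 1
  refine Set.Subset.antisymm (fun x hx => ?_) ?_
  · let s := G.hom ((G.hom ⁻¹ᵁ V).ι x)
    have hC : connectedComponentIn (G.hom ⁻¹' {s}) (unitSec G s) ⊆ W := fun y hy => by
      have hys : G.hom y = s := connectedComponentIn_subset (G.hom ⁻¹' {s}) _ hy
      exact hNW ⟨(connected_eq G hys).mpr hy, by show G.hom y ∈ V; rw [hys]; exact x.2⟩
    obtain ⟨w, hw, hwx⟩ := mem_comps G W V hWV he isPreconnected_connectedComponentIn hC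
      (connectedComponentIn_subset _ _) (mem_connectedComponentIn (hom_unitSec G s))
      ((mem_neutralSet G).mp hx)
    refine ⟨w, hw, (G.hom ⁻¹ᵁ V).ι.isOpenEmbedding.injective ?_⟩
    rw [← Scheme.Hom.comp_apply, Scheme.homOfLE_ι]
    exact hwx
  · rintro _ ⟨w, hw, rfl⟩
    show (G.hom ⁻¹ᵁ V).ι (j w) ∈ SGA3x.neutralSet G
    rw [← Scheme.Hom.comp_apply, Scheme.homOfLE_ι]
    exact comps_subset G W V hWV he ⟨w, hw, rfl⟩

/-- Near any point of the neutral components there is a constructible piece. -/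
theorem exists_piece {A : G.left.Opens} (hA : IsAffineOpen A) {y : G.left} (hyA : y ∈ A)
    (hy : y ∈ SGA3x.neutralSet G) :
    ∃ C : Set (A : Scheme.{u}), IsLocallyConstructible C ∧ ⟨y, hyA⟩ ∈ C ∧ C ⊆ A.ι ⁻¹' SGA3x.neutralSet G := by
  set s := G.hom y with hs
  obtain ⟨V₁, hV₁, hsV₁, -⟩ := exists_isAffineOpen_mem_and_subset (x := s) (U := ⊤) trivial
  obtain ⟨U₁, hU₁, heU₁, hU₁le⟩ := exists_isAffineOpen_mem_and_subset (x := unitSec G s)
    (U := G.hom ⁻¹ᵁ V₁) (by show G.hom (unitSec G s) ∈ V₁; rwa [hom_unitSec])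
  obtain ⟨g, hg, hsg⟩ := hV₁.exists_basicOpen_le (V := unitSec G ⁻¹ᵁ U₁) ⟨s, heU₁⟩ hsV₁
  let V := S.basicOpen g
  let U := G.left.basicOpen (G.hom.appLE V₁ U₁ hU₁le g)
  have hUeq : U = U₁ ⊓ G.hom ⁻¹ᵁ V := by
    simp only [U, V, Scheme.Hom.appLE, CommRingCat.comp_apply, Scheme.basicOpen_res, Scheme.preimage_basicOpen]
  have hle : U ≤ G.hom ⁻¹ᵁ V := hUeq.le.trans inf_le_right
  have he : V ≤ unitSec G ⁻¹ᵁ U := fun t ht => by
    show unitSec G t ∈ U
    rw [hUeq]
    exact ⟨hg ht, by show G.hom (unitSec G t) ∈ V; rwa [hom_unitSec]⟩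
  have : IsAffine V.toScheme := hV₁.basicOpen g
  have : IsAffine U.toScheme := hU₁.basicOpen _
  let f' := G.hom.resLE V U hle
  have : LocallyOfFinitePresentation f' := by
    have : LocallyOfFinitePresentation (f' ≫ V.ι) := by
      rw [Scheme.Hom.resLE_comp_ι]; infer_instance
    exact Thick.Topo.of_comp_mono f' V.ι this
  have hlc : IsLocallyConstructible (comps G U V hle he) :=
    SecComp.isLocallyConstructible_sectionComponents f' _ (section_comp G U V hle he)
  -- an open set cutting out the neutral component of the fibre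
  have : LocallyOfFiniteType (fib G s).hom :=
    inferInstanceAs (LocallyOfFiniteType (pullback.snd G.hom (S.fromSpecResidueField s)))
  obtain ⟨hZ, hZo⟩ := FieldComp.connectedComponent_eq (fib G s) (IdComponent.e₀ (fib G s))
  obtain ⟨O₁, hO₁, hO₁e⟩ := (isEmbedding_fibι G s).isInducing.isOpen_iff.mp hZo
  let U' : G.left.Opens := U ⊓ ⟨O₁, hO₁⟩
  have he₀ : IdComponent.e₀ (fib G s) ∈ fibι G s ⁻¹' O₁ := by
    rw [hO₁e]
    exact mem_irreducibleComponent
  have heU' : unitSec G s ∈ U' :=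
    ⟨he (show s ∈ V from hsg), by rw [← show fibι G s _ = unitSec G s from fibι_unit G s]; exact he₀⟩
  obtain ⟨p, hp₁, hp₂, hp₃⟩ := NeutralCompact.exists_mul G U' heU' hy
  -- points of `U'` over `s` are in the section components
  have hmem : ∀ x ∈ U', G.hom x = s → x ∈ U.ι '' comps G U V hle he := by
    intro x hx hxs
    obtain ⟨a, rfl⟩ := exists_mem_fib G hxs
    let C₀ : Set (fib G s).left :=
      irreducibleComponent (IdComponent.e₀ (fib G s)) ∩ (fibι G s ⁻¹ᵁ U : (fib G s).left.Opens)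
    have hC₀ : IsIrreducible C₀ := by
      refine ⟨⟨_, mem_irreducibleComponent, ?_⟩,
        isIrreducible_irreducibleComponent.2.open_subset (hZo.inter (fibι G s ⁻¹ᵁ U).2) Set.inter_subset_left⟩
      show fibι G s _ ∈ U
      rw [fibι_unit]
      exact heU'.1
    refine mem_comps G U V hle he (C := fibι G s '' C₀) (s := s)
      ((hC₀.image _ (fibι G s).continuous.continuousOn).isConnected.isPreconnected) ?_ ?_ ?_
      ⟨a, ⟨hO₁e.le hx.2, hx.1⟩, rfl⟩
    · rintro _ ⟨b, ⟨-, hb⟩, rfl⟩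
      exact hb
    · rintro _ ⟨b, -, rfl⟩
      exact hom_fibι G s b
    · exact ⟨_, ⟨mem_irreducibleComponent, by show fibι G s _ ∈ U; rw [fibι_unit]; exact heU'.1⟩,
        fibι_unit G s⟩
  have hps : ∀ (f : G ⊗ G ⟶ G), G.hom (f.left p) = s := fun f => by
    rw [hs, ← hp₃, ← Scheme.Hom.comp_apply, Over.w f, ← Scheme.Hom.comp_apply, Over.w μ[G]]
  -- the piece
  let P : (G ⊗ G).left.Opens := (μ[G].left ⁻¹ᵁ A) ⊓ ((fst G G).left ⁻¹ᵁ U ⊓ (snd G G).left ⁻¹ᵁ U)
  have hpP : p ∈ P := ⟨by show μ[G].left p ∈ A; rw [hp₃]; exact hyA, hp₁.1, hp₂.1⟩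
  obtain ⟨O, hO, hpO, hOP⟩ := exists_isAffineOpen_mem_and_subset (U := P) hpP
  have : IsAffine O.toScheme := hO
  have : IsAffine A.toScheme := hA
  let a := (fst G G).left.resLE U O (fun x hx => (hOP hx).2.1)
  let b := (snd G G).left.resLE U O (fun x hx => (hOP hx).2.2)
  let m := μ[G].left.resLE A O (fun x hx => (hOP hx).1)
  have : LocallyOfFinitePresentation m := by
    have h0 : LocallyOfFinitePresentation μ[G].left := Basic.mul_mem @LocallyOfFinitePresentation ‹_›
    have : LocallyOfFinitePresentation (m ≫ A.ι) := by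
      rw [Scheme.Hom.resLE_comp_ι]; infer_instance
    exact Thick.Topo.of_comp_mono m A.ι this
  have hval : ∀ (f : (G ⊗ G).left ⟶ G.left) (W : G.left.Opens) (h : O ≤ f ⁻¹ᵁ W) (z : O.toScheme),
      W.ι (f.resLE W O h z) = f (O.ι z) := fun f W h z => by
    rw [← Scheme.Hom.comp_apply, Scheme.Hom.resLE_comp_ι, Scheme.Hom.comp_apply]
  refine ⟨m '' (a ⁻¹' comps G U V hle he ∩ b ⁻¹' comps G U V hle he), ?_, ?_, ?_⟩
  · exact m.isLocallyConstructible_image
      ((ProConsPre.isLocallyConstructible_preimage a hlc).inter (ProConsPre.isLocallyConstructible_preimage b hlc))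
  · refine ⟨⟨p, hpO⟩, ⟨?_, ?_⟩, A.ι.isOpenEmbedding.injective ?_⟩
    · obtain ⟨w, hw, hwe⟩ := hmem _ hp₁ (hps (fst G G))
      rw [Set.mem_preimage, show a ⟨p, hpO⟩ = w from U.ι.isOpenEmbedding.injective
        ((hval _ _ _ _).trans hwe.symm)]
      exact hw
    · obtain ⟨w, hw, hwe⟩ := hmem _ hp₂ (hps (snd G G))
      rw [Set.mem_preimage, show b ⟨p, hpO⟩ = w from U.ι.isOpenEmbedding.injective
        ((hval _ _ _ _).trans hwe.symm)]
      exact hw
    · rw [hval]
      exact hp₃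
  · rintro _ ⟨z, ⟨hza, hzb⟩, rfl⟩
    show A.ι (m z) ∈ SGA3x.neutralSet G
    have ha : U.ι (a z) ∈ SGA3x.neutralSet G :=
      comps_subset G U V hle he (Set.mem_image_of_mem _ hza)
    have hb : U.ι (b z) ∈ SGA3x.neutralSet G :=
      comps_subset G U V hle he (Set.mem_image_of_mem _ hzb)
    rw [hval] at ha hb ⊢
    have h := Neutral.mul_mem (G := G) (T := G ⊗ G) (O.ι z) (fst G G) (snd G G) ha hb
    rw [← mul_eq_mul (M := G)] at h
    exact h

end Groth.Agent.GrpSGA.NeutralCons
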