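import Groth.Agent.GrpSGA.FieldComp
import Groth.Agent.GrpSGA.Fibre
import Groth.Agent.GrpScheme.Component
import Groth.Agent.EquidimPt.DimSum
import Groth.Agent.FibBound.Basic
import Groth.Agent.VarBC.Dim
import Groth.Agent.AlgSpD.FibreDimBC
import Groth.Agent.S5341
import Mathlib.AlgebraicGeometry.Morphisms.UniversallyOpen

/-!
# Components of a flat quotient of a group scheme

If `p : G → X` is a quasi-compact, flat, surjective morphism out of a group locally of finite type
over a field, the components of `X` are irreducible and quasi-compact, and their dimension is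
`dim G` minus the dimension of the fibres.
-/

set_option autoImplicit false

universe u

open CategoryTheory MonoidalCategory CartesianMonoidalCategory MonObj GrpObj AlgebraicGeometry Limits

noncomputable section

namespace Groth.Agent.GrpSGA.QuotComp

open Groth.Agent.GrpScheme

section Field

variable {K : Type u} [Field K] {G X : Over (Spec (CommRingCat.of K))} [GrpObj G]
  [LocallyOfFiniteType G.hom] [LocallyOfFiniteType X.hom]
  (p : G.left ⟶ X.left) (hp : p ≫ X.hom = G.hom) [Flat p] [Surjective p] [LocallyOfFinitePresentation p]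
  [QuasiCompact p]

include hp in
omit [Surjective p] [QuasiCompact p] in
/-- The dimension of the closure of the image of a maximal point. -/
lemma topDim_closure_add {ζ : G.left} (hζ : Component.IsMaxGen ζ) (n : WithBot ℕ∞)
    (hn : FlatMor.fibreDimAt p ζ = n) :
    topologicalKrullDim ↥(closure {p ζ}) + n = topologicalKrullDim G.left := by
  let _ : G.left.Over (Spec (CommRingCat.of K)) := ⟨G.hom⟩
  let _ : X.left.Over (Spec (CommRingCat.of K)) := ⟨X.hom⟩
  have : LocallyOfFiniteType (G.left ↘ Spec (CommRingCat.of K)) := ‹LocallyOfFiniteType G.hom›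
  have : LocallyOfFiniteType (X.left ↘ Spec (CommRingCat.of K)) := ‹LocallyOfFiniteType X.hom›
  obtain ⟨a, t, -, ha, ht, -, hfd⟩ := EquidimPt.fibre_facts p ζ
  obtain ⟨e, he, hdim⟩ := FibBound.dimPt_eq_add p K hp ζ
  have ha0 : a = 0 := by
    have h0 : Order.krullDim {z : G.left | p z = p ζ ∧ z ⤳ ζ} = 0 := by
      have : Subsingleton {z : G.left | p z = p ζ ∧ z ⤳ ζ} :=
        ⟨fun a b => Subtype.ext ((hζ _ a.2.2).trans (hζ _ b.2.2).symm)⟩
      have : Nonempty {z : G.left | p z = p ζ ∧ z ⤳ ζ} := ⟨⟨ζ, rfl, specializes_rfl⟩⟩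
      exact Order.krullDim_eq_zero
    rw [h0] at ha
    exact_mod_cast ha.symm
  rw [ha0, zero_add, hn] at hfd
  rw [he] at ht
  have hte : e = t := by exact_mod_cast ht
  rw [hfd, VarBC.Dim.topDim_closure K, ← hte, ← (S5341.result K G).1 (irreducibleComponent ζ)
    (irreducibleComponent_mem_irreducibleComponents ζ)]
  have hcl : irreducibleComponent ζ = closure {ζ} := by
    have hm := Component.isMaxGen_iff.mp hζ
    exact (Component.existsUnique_component G ζ).unique
      ⟨irreducibleComponent_mem_irreducibleComponents ζ, mem_irreducibleComponent⟩ ⟨hm, subset_closure rfl⟩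
  rw [hcl, VarBC.Dim.topDim_closure K, hdim]
  norm_cast

include hp in
/-- Components of the quotient. -/
theorem component (n : WithBot ℕ∞) (hn : ∀ g, FlatMor.fibreDimAt p g = n) (x : X.left) :
    IsIrreducible (connectedComponent x) ∧ IsCompact (connectedComponent x) ∧
      topologicalKrullDim ↥(connectedComponent x) + n = topologicalKrullDim G.left := by
  have hopen : IsOpenMap p :=
    have : UniversallyOpen p := UniversallyOpen.of_flat p
    Scheme.Hom.isOpenMap _
  -- the maximal point above a point of `G`
  have hD : ∀ g : G.left, ∃ ζ, Component.IsMaxGen ζ ∧ connectedComponent g = closure {ζ} ∧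
      IsOpen (closure ({ζ} : Set G.left)) := by
    intro g
    obtain ⟨h1, h2⟩ := FieldComp.connectedComponent_eq G g
    obtain ⟨ζ, hζ⟩ := QuasiSober.sober (isIrreducible_irreducibleComponent (x := g))
      isClosed_irreducibleComponent
    have hm := irreducibleComponent_mem_irreducibleComponents g
    rw [← hζ.def] at h1 h2 hm
    exact ⟨ζ, Component.isMaxGen_iff.mpr hm, h1, h2⟩
  -- images of maximal points are maximal
  have hmax : ∀ ζ : G.left, Component.IsMaxGen ζ → Component.IsMaxGen (p ζ) := fun ζ hζ w hw => by
    obtain ⟨w', hw', rfl⟩ := (Flat.generalizingMap p) hw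
    exact congrArg p (hζ w' hw')
  obtain ⟨g₀, rfl⟩ := p.surjective x
  obtain ⟨ζ₀, hζ₀, hc₀, -⟩ := hD g₀
  have hg₀ : ζ₀ ⤳ g₀ := specializes_iff_mem_closure.mpr (hc₀ ▸ mem_connectedComponent)
  set ξ := p ζ₀ with hξ
  -- every point above the closure of `ξ` lies on a component whose maximal point maps to `ξ`
  have key : ∀ g : G.left, ξ ⤳ p g → ∀ ζ, Component.IsMaxGen ζ → connectedComponent g = closure {ζ} →
      IsOpen (closure ({ζ} : Set G.left)) → p ζ = ξ := by
    intro g hg ζ hζ hc ho
    have hgζ : g ∈ closure {ζ} := hc ▸ mem_connectedComponent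
    obtain ⟨w, hw, hwξ⟩ := hg.mem_open (hopen _ ho) ⟨g, hgζ, rfl⟩
    exact hmax ζ₀ hζ₀ _ (((specializes_iff_mem_closure.mpr hw).map p.continuous).trans (specializes_of_eq hwξ))
  have hcl : IsOpen (closure ({ξ} : Set X.left)) := by
    rw [isOpen_iff_forall_mem_open]
    intro y hy
    obtain ⟨g, rfl⟩ := p.surjective y
    obtain ⟨ζ, hζ, hc, ho⟩ := hD g
    refine ⟨p '' closure {ζ}, ?_, hopen _ ho, g, hc ▸ mem_connectedComponent, rfl⟩
    rw [← key g (specializes_iff_mem_closure.mpr hy) ζ hζ hc ho]
    exact (image_closure_subset_closure_image p.continuous).trans (by rw [Set.image_singleton])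
  have hx : p g₀ ∈ closure ({ξ} : Set X.left) := (hg₀.map p.continuous).mem_closed isClosed_closure (subset_closure rfl)
  have hC : connectedComponent (p g₀) = closure {ξ} :=
    subset_antisymm (IsClopen.connectedComponent_subset ⟨isClosed_closure, hcl⟩ hx)
      (isIrreducible_singleton.closure.isConnected.2.subset_connectedComponent hx)
  rw [hC]
  refine ⟨isIrreducible_singleton.closure, ?_, topDim_closure_add p hp hζ₀ n (hn ζ₀)⟩
  -- quasi-compactness
  have hfib : IsCompact (p ⁻¹' {ξ}) := by
    rw [← p.range_fiberι ξ]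
    have : CompactSpace (p.fiber ξ) := QuasiCompact.compactSpace_of_compactSpace (p.fiberToSpecResidueField ξ)
    exact isCompact_range (p.fiberι ξ).continuous
  obtain ⟨t, ht⟩ := hfib.elim_finite_subcover (fun g : G.left => connectedComponent g)
    (fun g => by rw [(FieldComp.connectedComponent_eq G g).1]; exact (FieldComp.connectedComponent_eq G g).2)
    (fun g _ => Set.mem_iUnion.mpr ⟨g, mem_connectedComponent⟩)
  have heq : closure {ξ} = closure {ξ} ∩ ⋃ g ∈ t, p '' connectedComponent g := by
    refine (Set.inter_eq_left.mpr fun y hy => ?_).symm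
    obtain ⟨g, rfl⟩ := p.surjective y
    obtain ⟨ζ, hζ, hc, ho⟩ := hD g
    obtain ⟨g', hg', hζg'⟩ := Set.mem_iUnion₂.mp (ht (key g (specializes_iff_mem_closure.mpr hy) ζ hζ hc ho))
    refine Set.mem_iUnion₂.mpr ⟨g', hg', g, ?_, rfl⟩
    have hζg : ζ ∈ connectedComponent g := hc ▸ subset_closure rfl
    rw [connectedComponent_eq hζg'] at *
    rw [← connectedComponent_eq hζg]
    exact mem_connectedComponent
  rw [heq]
  exact ((t.finite_toSet.isCompact_biUnion fun g _ =>
    (FieldComp.isCompact_connectedComponent G g).image p.continuous)).inter_left isClosed_closure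

end Field

/-- Connected components correspond under a homeomorphism. -/
lemma image_connectedComponent {X Y : Type*} [TopologicalSpace X] [TopologicalSpace Y] (e : X ≃ₜ Y) (x : X) :
    e '' connectedComponent x = connectedComponent (e x) := by
  refine subset_antisymm (e.continuous.image_connectedComponent_subset x) fun w hw => ?_
  exact ⟨e.symm w, by simpa using e.symm.continuous.image_connectedComponent_subset (e x) ⟨w, hw, rfl⟩, by simp⟩

/-- Components of a quotient of a group over an artinian local ring. -/
theorem component_of_artinian {A : Type u} [CommRing A] [IsArtinianRing A] [IsLocalRing A]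
    {G X : Over (Spec (CommRingCat.of A))} [GrpObj G] [LocallyOfFiniteType G.hom] [LocallyOfFiniteType X.hom]
    (p : G ⟶ X) [Flat p.left] [Surjective p.left] [LocallyOfFinitePresentation p.left] [QuasiCompact p.left]
    (n : WithBot ℕ∞) (hn : ∀ g, FlatMor.fibreDimAt p.left g = n) (x : X.left) :
    IsIrreducible (connectedComponent x) ∧ IsCompact (connectedComponent x) ∧
      topologicalKrullDim ↥(connectedComponent x) + n = topologicalKrullDim G.left := by
  have : Subsingleton ↥(Spec (CommRingCat.of A)) := inferInstanceAs (Subsingleton (PrimeSpectrum A))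
  let s : Spec (CommRingCat.of A) := X.hom x
  let f := (Spec (CommRingCat.of A)).fromSpecResidueField s
  let p₀ : Fibre.fib G s ⟶ Fibre.fib X s := (Over.pullback f).map p
  have hsq : IsPullback (Fibre.fibι G s) p₀.left p.left (Fibre.fibι X s) := by
    refine IsPullback.of_bot (h₂₁ := Fibre.fibι X s) (v₂₁ := (Fibre.fib X s).hom) ?_ ?_ (IsPullback.of_hasPullback _ _)
    · rw [Over.w p, Over.w p₀]
      exact IsPullback.of_hasPullback _ _
    · exact (pullback.lift_fst _ _ _).symm
  have : Flat p₀.left := MorphismProperty.of_isPullback hsq ‹Flat p.left›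
  have : Surjective p₀.left := MorphismProperty.of_isPullback hsq ‹Surjective p.left›
  have : LocallyOfFinitePresentation p₀.left := MorphismProperty.of_isPullback hsq inferInstance
  have : QuasiCompact p₀.left := MorphismProperty.of_isPullback hsq inferInstance
  have : LocallyOfFiniteType (Fibre.fib G s).hom := inferInstanceAs (LocallyOfFiniteType (pullback.snd G.hom f))
  have : LocallyOfFiniteType (Fibre.fib X s).hom := inferInstanceAs (LocallyOfFiniteType (pullback.snd X.hom f))
  have hs : ∀ {Y : Over (Spec (CommRingCat.of A))}, Function.Surjective (Fibre.fibι Y s) := fun {Y} y => by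
    have : y ∈ Set.range (Fibre.fibι Y s) := by rw [Fibre.range_fibι]; exact Subsingleton.elim _ _
    exact this
  let eX := (Fibre.isEmbedding_fibι X s).toHomeomorphOfSurjective hs
  let eG := (Fibre.isEmbedding_fibι G s).toHomeomorphOfSurjective hs
  obtain ⟨x₀, hx₀⟩ := eX.surjective x
  have hn₀ : ∀ g, FlatMor.fibreDimAt p₀.left g = n := fun g => by
    rw [AlgSpD.fibreDimAt_of_isPullback p.left hsq g]
    exact hn _
  obtain ⟨h1, h2, h3⟩ := component p₀.left (Over.w p₀) n hn₀ x₀
  rw [← hx₀, ← image_connectedComponent eX x₀]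
  refine ⟨h1.image _ eX.continuous.continuousOn, h2.image eX.continuous, ?_⟩
  rw [← (IsHomeomorph.topologicalKrullDim_eq _ (eX.image (connectedComponent x₀)).isHomeomorph),
    ← IsHomeomorph.topologicalKrullDim_eq _ eG.isHomeomorph]
  exact h3

end Groth.Agent.GrpSGA.QuotComp
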