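import Groth.Agent.ProConsX.Basic
import Groth.Agent.SchPoints.Basic

/-!
# Subsets of a scheme whose functor of points is representable
-/

set_option autoImplicit false

universe u

open CategoryTheory Limits AlgebraicGeometry Topology

namespace Groth.Agent.GrpSGA.Represent

variable {X W : Scheme.{u}} (i : W ⟶ X) [Mono i] {E : Set X}

/-- An ind-constructible set in the spectrum of a ring has maximal elements outside it. -/
lemma exists_maximal_compl {R : Type u} [CommRing R] {Z : Set (Spec (CommRingCat.of R))}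
    (hZ : IsOpen[constructibleTopology (Spec (CommRingCat.of R))] Z)
    {p : Spec (CommRingCat.of R)} (hp : p ∉ Z) :
    ∃ m : Spec (CommRingCat.of R), m ∉ Z ∧
      ∀ q : Spec (CommRingCat.of R), m.asIdeal < q.asIdeal → q ∈ Z := by
  let 𝒮 : Set (Ideal R) := {I | ∃ q : Spec (CommRingCat.of R), q ∉ Z ∧ q.asIdeal = I}
  have hchain : ∀ c ⊆ 𝒮, IsChain (· ≤ ·) c → ∀ y ∈ c, ∃ ub ∈ 𝒮, ∀ z ∈ c, z ≤ ub := by
    intro c hc hch y hy
    have hprime : (sSup c).IsPrime := by
      constructor
      · intro htop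
        have h1 : (1 : R) ∈ sSup c := htop ▸ trivial
        rw [Submodule.mem_sSup_of_directed ⟨y, hy⟩ hch.directedOn] at h1
        obtain ⟨I, hI, h1I⟩ := h1
        obtain ⟨q, -, rfl⟩ := hc hI
        exact q.2.ne_top ((Ideal.eq_top_iff_one _).mpr h1I)
      · intro a b hab
        rw [Submodule.mem_sSup_of_directed ⟨y, hy⟩ hch.directedOn] at hab
        obtain ⟨I, hI, habI⟩ := hab
        obtain ⟨q, -, rfl⟩ := hc hI
        exact (q.2.mem_or_mem habI).imp (fun h => le_sSup hI h) (fun h => le_sSup hI h)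
    refine ⟨sSup c, ⟨⟨sSup c, hprime⟩, fun hq => ?_, rfl⟩, fun z hz => le_sSup hz⟩
    obtain ⟨C, hC, hqC, hCZ⟩ := FDesc.ProConsImage.exists_isConstructible_subset hZ hq
    obtain ⟨D, hD⟩ := PrimeSpectrum.exists_constructibleSetData_iff.mpr
      (show IsConstructible (C : Set (PrimeSpectrum R)) from hC)
    obtain ⟨B, hB, hqB⟩ := Set.mem_iUnion₂.mp
      (show (⟨sSup c, hprime⟩ : PrimeSpectrum R) ∈ D.toSet from hD.symm ▸ hqC)
    have hg : ∀ k, B.g k ∈ sSup c := fun k => hqB.1 ⟨k, rfl⟩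
    have hf : B.f ∉ sSup c := fun h => hqB.2 (fun x hx => by rw [Set.mem_singleton_iff.mp hx]; exact h)
    obtain ⟨I, hI, hgI⟩ : ∃ I ∈ c, ∀ k, B.g k ∈ I := by
      choose J hJ hgJ using fun k => (Submodule.mem_sSup_of_directed ⟨y, hy⟩ hch.directedOn).mp (hg k)
      classical
      have key : ∀ t : Finset (Fin B.n), ∃ I ∈ c, ∀ k ∈ t, B.g k ∈ I := by
        intro t
        induction t using Finset.induction_on with
        | empty => exact ⟨y, hy, by simp⟩
        | insert k t hk ih =>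
          obtain ⟨I, hI, hIt⟩ := ih
          obtain ⟨M, hM, hIM, hJM⟩ := hch.directedOn I hI (J k) (hJ k)
          exact ⟨M, hM, fun l hl => (Finset.mem_insert.mp hl).elim (fun e => e ▸ hJM (hgJ k)) fun h => hIM (hIt l h)⟩
      obtain ⟨I, hI, h⟩ := key Finset.univ
      exact ⟨I, hI, fun k => h k (Finset.mem_univ k)⟩
    obtain ⟨q, hqZ, rfl⟩ := hc hI
    refine hqZ (hCZ ?_)
    have hmem : (q : PrimeSpectrum R) ∈ B.toSet :=
      ⟨by rintro _ ⟨k, rfl⟩; exact hgI k, fun h => hf (le_sSup hI (h rfl))⟩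
    exact hD.le (Set.mem_iUnion₂.mpr ⟨B, hB, hmem⟩)
  obtain ⟨m, -, ⟨q, hq, rfl⟩, hmax⟩ :=
    zorn_le_nonempty₀ 𝒮 hchain p.asIdeal ⟨p, hp, rfl⟩
  refine ⟨q, hq, fun q' hlt => ?_⟩
  by_contra hq'
  exact hlt.not_ge (hmax ⟨q', hq', rfl⟩ hlt.le)

/-- A set represented by a monomorphism is stable under generization when it is ind-constructible. -/
theorem mem_of_specializes (hE : ProCons.IsIndConstructible E) (hrange : Set.range i ⊆ E)
    (hfac : ∀ (T : Scheme.{u}) (g : T ⟶ X), Set.range g ⊆ E → ∃ l : T ⟶ W, l ≫ i = g)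
    {x y : X} (hxy : x ⤳ y) (hy : y ∈ E) : x ∈ E := by
  by_contra hx
  obtain ⟨A, hA, hyA, -⟩ := exists_isAffineOpen_mem_and_subset (x := y) (U := ⊤) trivial
  let R := X.presheaf.stalk y
  let g := X.fromSpecStalk y
  obtain ⟨p, hp⟩ := SchPoints.exists_fromSpecStalk_eq hxy
  have hZ : IsOpen[constructibleTopology (Spec R)] (g ⁻¹' E) := LimTop.isOpen_cons_preimage g hE
  obtain ⟨m, hm, hmax⟩ := exists_maximal_compl (R := R) hZ (p := p) (by
    show g p ∉ E
    rwa [hp])
  let R' := CommRingCat.of (R ⧸ m.asIdeal)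
  let q : R ⟶ R' := CommRingCat.ofHom (Ideal.Quotient.mk m.asIdeal)
  let k : Spec R' ⟶ X := Spec.map q ≫ g
  have hk0 : k ⟨⊥, Ideal.isPrime_bot⟩ ∉ E := by
    show (Spec.map q ≫ g) _ ∉ E
    rw [Scheme.Hom.comp_apply]
    have hqm : Spec.map q (⟨⊥, Ideal.isPrime_bot⟩ : Spec R') = m := PrimeSpectrum.ext Ideal.mk_ker
    rw [hqm]
    exact hm
  have hknz : ∀ z : Spec R', z.asIdeal ≠ ⊥ → k z ∈ E := fun z hz => by
    show (Spec.map q ≫ g) _ ∈ E
    rw [Scheme.Hom.comp_apply]
    refine hmax _ ?_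
    refine lt_of_le_of_ne ?_ fun h => hz ?_
    · exact Ideal.mk_ker.ge.trans (Ideal.comap_mono bot_le)
    · have h' : z.asIdeal.comap (Ideal.Quotient.mk m.asIdeal) = m.asIdeal := h.symm
      rw [eq_bot_iff]
      intro a ha
      obtain ⟨a, rfl⟩ := Ideal.Quotient.mk_surjective a
      exact Ideal.mem_bot.mpr (Ideal.Quotient.eq_zero_iff_mem.mpr (h'.le ha))
  have : IsLocalRing R' := .of_surjective' (Ideal.Quotient.mk m.asIdeal) Ideal.Quotient.mk_surjective
  have : IsLocalHom q.hom := .of_surjective _ Ideal.Quotient.mk_surjective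
  have hkcl : k (IsLocalRing.closedPoint R') = y := by
    show (Spec.map q ≫ g) _ = y
    rw [Scheme.Hom.comp_apply]
    refine Eq.trans (congrArg g ?_) (Scheme.fromSpecStalk_closedPoint (x := y))
    exact IsLocalRing.comap_closedPoint q.hom
  have hgen : ∀ z, k z ⤳ y := fun z => hkcl ▸ (IsLocalRing.specializes_closedPoint z).map k.continuous
  -- a chart of `W` around the point over `y`
  obtain ⟨l, hl⟩ := hfac _ (X.fromSpecResidueField y) (by
    rintro _ ⟨z, rfl⟩; rwa [Scheme.fromSpecResidueField_apply])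
  let y' := l (IsLocalRing.closedPoint _)
  have hy' : i y' = y := by
    rw [← Scheme.Hom.comp_apply, hl, Scheme.fromSpecResidueField_apply]
  obtain ⟨W₀, hW₀, hyW₀, hW₀A⟩ := exists_isAffineOpen_mem_and_subset (U := i ⁻¹ᵁ A)
    (show i y' ∈ A by rw [hy']; exact hyA)
  have : IsAffine W₀.toScheme := hW₀
  have : IsAffine A.toScheme := hA
  let h := i.resLE A W₀ hW₀A
  have hkA : Set.range k ⊆ Set.range A.ι := by
    rintro _ ⟨z, rfl⟩
    rw [Scheme.Opens.range_ι]
    exact (hgen z).mem_open A.2 hyA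
  let k' := IsOpenImmersion.lift A.ι k hkA
  let π := pullback.snd h k'
  have hhi : h ≫ A.ι = W₀.ι ≫ i := Scheme.Hom.resLE_comp_ι _ _
  have hk' : k' ≫ A.ι = k := IsOpenImmersion.lift_fac _ _ _
  -- factorisation through the chart
  have hlift : ∀ (T : Scheme.{u}) (c : T ⟶ Spec R'), (∀ t, (c t).asIdeal ≠ ⊥) →
      ∃ c' : T ⟶ pullback h k', c' ≫ π = c := by
    intro T c hc
    obtain ⟨d, hd⟩ := hfac T (c ≫ k) (by
      rintro _ ⟨t, rfl⟩
      rw [Scheme.Hom.comp_apply]
      exact hknz _ (hc t))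
    have hdW : Set.range d ⊆ Set.range W₀.ι := by
      rintro _ ⟨t, rfl⟩
      rw [Scheme.Opens.range_ι]
      -- the closed subscheme cut out by the image of `t`
      let J := R'.carrier ⧸ (c t).asIdeal
      let qJ : R' ⟶ CommRingCat.of J := CommRingCat.ofHom (Ideal.Quotient.mk (c t).asIdeal)
      have hJle : ∀ z : Spec (CommRingCat.of J), (c t).asIdeal ≤ (Spec.map qJ z).asIdeal :=
        fun z => Ideal.mk_ker.ge.trans (Ideal.comap_mono bot_le)
      obtain ⟨e, he⟩ := hfac _ (Spec.map qJ ≫ k) (by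
        rintro _ ⟨z, rfl⟩
        rw [Scheme.Hom.comp_apply]
        exact hknz _ fun hbot => hc t (le_bot_iff.mp ((hJle z).trans hbot.le)))
      have : IsLocalRing J := .of_surjective' (Ideal.Quotient.mk (c t).asIdeal) Ideal.Quotient.mk_surjective
      have : IsLocalHom qJ.hom := .of_surjective _ Ideal.Quotient.mk_surjective
      have h0 : e (IsLocalRing.closedPoint J) = y' := by
        refine i.injective ?_
        rw [← Scheme.Hom.comp_apply, he, Scheme.Hom.comp_apply, hy']
        refine Eq.trans (congrArg k ?_) hkcl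
        exact IsLocalRing.comap_closedPoint qJ.hom
      let z₀ : Spec (CommRingCat.of J) := ⟨⊥, Ideal.isPrime_bot⟩
      have h1 : e z₀ = d t := by
        refine i.injective ?_
        rw [← Scheme.Hom.comp_apply, he, Scheme.Hom.comp_apply, ← Scheme.Hom.comp_apply d, hd,
          Scheme.Hom.comp_apply]
        refine congrArg k (PrimeSpectrum.ext ?_)
        exact Ideal.mk_ker
      rw [← h1]
      exact (h0 ▸ (IsLocalRing.specializes_closedPoint z₀).map e.continuous).mem_open W₀.2 hyW₀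
    refine ⟨pullback.lift (IsOpenImmersion.lift W₀.ι d hdW) c ?_, pullback.lift_snd _ _ _⟩
    rw [← cancel_mono A.ι, Category.assoc, Category.assoc, hhi, hk', IsOpenImmersion.lift_fac_assoc, hd]
  -- the generic point is not in the image
  have hη : ∀ w, (π w).asIdeal ≠ ⊥ := by
    intro w hw
    apply hk0
    have h2 : π w = (⟨⊥, Ideal.isPrime_bot⟩ : Spec R') := PrimeSpectrum.ext hw
    rw [← h2, ← hk', ← Scheme.Hom.comp_apply, ← Category.assoc, ← pullback.condition, Category.assoc,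
      hhi, ← Category.assoc, Scheme.Hom.comp_apply]
    exact hrange ⟨_, rfl⟩
  have : IsAffine (pullback h k') := inferInstance
  have hηcl : (⟨⊥, Ideal.isPrime_bot⟩ : Spec R') ∉ closure (Set.range π) := fun hcl => by
    obtain ⟨w, hw⟩ := SchPoints.exists_specializes_of_mem_closure_range π hcl
    exact hη w (le_bot_iff.mp ((PrimeSpectrum.le_iff_specializes _ _).mpr hw))
  obtain ⟨_, ⟨f, rfl⟩, hf0, hfcl⟩ :=
    PrimeSpectrum.isTopologicalBasis_basic_opens.exists_subset_of_mem_open hηcl isClosed_closure.isOpen_compl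
  have hfne : f ≠ 0 := fun hh => hf0 (by rw [hh]; exact Ideal.zero_mem _)
  have hfnu : ¬ IsUnit f := by
    intro hu
    have hcl : IsLocalRing.closedPoint R' ∉ closure (Set.range π) :=
      hfcl (fun hmem => (IsLocalRing.closedPoint R').2.ne_top (Ideal.eq_top_of_isUnit_mem _ hmem hu))
    by_cases hb : (IsLocalRing.closedPoint R').asIdeal = ⊥
    · exact hk0 (by rw [← show IsLocalRing.closedPoint R' = (⟨⊥, Ideal.isPrime_bot⟩ : Spec R') from
        PrimeSpectrum.ext hb, hkcl]; exact hy)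
    · refine hcl (subset_closure ?_)
      obtain ⟨c', hc'⟩ := hlift (Spec (CommRingCat.of (IsLocalRing.ResidueField R')))
        (Spec.map (CommRingCat.ofHom (IsLocalRing.residue R'))) (fun t => by
          have ht : Spec.map (CommRingCat.ofHom (IsLocalRing.residue R')) t = IsLocalRing.closedPoint R' :=
            IsLocalRing.PrimeSpectrum.comap_residue R' t
          rw [ht]
          exact hb)
      refine ⟨c' (IsLocalRing.closedPoint _), ?_⟩
      rw [← Scheme.Hom.comp_apply, hc']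
      exact IsLocalRing.PrimeSpectrum.comap_residue R' _
  -- `f` becomes nilpotent on the pullback
  let s := π.appTop.hom ((Scheme.ΓSpecIso R').inv.hom f)
  have hs : IsNilpotent s := by
    rw [Scheme.isNilpotent_iff_basicOpen_eq_bot]
    show (pullback h k').basicOpen (π.appTop.hom _) = ⊥
    rw [← Scheme.preimage_basicOpen_top, basicOpen_eq_of_affine]
    refine eq_bot_iff.mpr fun w hw => ?_
    exact hfcl hw (subset_closure ⟨w, rfl⟩)
  obtain ⟨n, hn⟩ := hs
  let J := R'.carrier ⧸ Ideal.span {f ^ (n + 1)}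
  let qJ : R' ⟶ CommRingCat.of J := CommRingCat.ofHom (Ideal.Quotient.mk _)
  obtain ⟨c', hc'⟩ := hlift (Spec (CommRingCat.of J)) (Spec.map qJ) (fun z hb => hfne (by
    have hmem : f ^ (n + 1) ∈ (Spec.map qJ z).asIdeal :=
      Ideal.mk_ker.ge.trans (Ideal.comap_mono bot_le) (Ideal.mem_span_singleton_self _)
    rw [hb, Ideal.mem_bot] at hmem
    exact eq_zero_of_pow_eq_zero hmem))
  have hzero : qJ (f ^ n) = 0 := by
    have h3 : (Spec.map qJ).appTop.hom ((Scheme.ΓSpecIso R').inv.hom (f ^ n)) = 0 := by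
      rw [← hc', Scheme.Hom.comp_appTop, CommRingCat.hom_comp, RingHom.comp_apply, map_pow, map_pow]
      show c'.appTop.hom (s ^ n) = 0
      rw [hn, map_zero]
    have h4 := congrArg (fun m : R' ⟶ _ => m.hom (f ^ n)) (Scheme.ΓSpecIso_inv_naturality qJ)
    simp only [CommRingCat.hom_comp, RingHom.comp_apply] at h4
    rw [h3] at h4
    exact (Scheme.ΓSpecIso (CommRingCat.of J)).commRingCatIsoToRingEquiv.symm.injective
      (h4.trans (map_zero _).symm)
  obtain ⟨a, ha⟩ := Ideal.mem_span_singleton.mp (Ideal.Quotient.eq_zero_iff_mem.mp hzero)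
  refine hfnu (IsUnit.of_mul_eq_one a (mul_left_cancel₀ (pow_ne_zero n hfne) ?_))
  rw [mul_one, ← mul_assoc, ← pow_succ]
  exact ha.symm

/-- A monomorphism representing an ind-constructible set is an open immersion. -/
theorem isOpenImmersion_of_represents (hE : ProCons.IsIndConstructible E) (hrange : Set.range i ⊆ E)
    (hfac : ∀ (T : Scheme.{u}) (g : T ⟶ X), Set.range g ⊆ E → ∃ l : T ⟶ W, l ≫ i = g) :
    IsOpen E ∧ IsOpenImmersion i ∧ Set.range i = E := by
  have ho : IsOpen E := by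
    rw [← subset_interior_iff_isOpen]
    exact fun y hy => (ProConsX.Basic.mem_interior_iff hE y).mpr fun x hxy =>
      mem_of_specializes i hE hrange hfac hxy hy
  let N : X.Opens := ⟨E, ho⟩
  obtain ⟨l, hl⟩ := hfac N N.ι (by rw [Scheme.Opens.range_ι]; rfl)
  let c := IsOpenImmersion.lift N.ι i (by rw [Scheme.Opens.range_ι]; exact hrange)
  have hc : c ≫ N.ι = i := IsOpenImmersion.lift_fac _ _ _
  have h1 : l ≫ c = 𝟙 _ := by rw [← cancel_mono N.ι, Category.assoc, hc, hl, Category.id_comp]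
  have h2 : c ≫ l = 𝟙 _ := by rw [← cancel_mono i, Category.assoc, hl, hc, Category.id_comp]
  have : IsIso c := ⟨l, h2, h1⟩
  refine ⟨ho, hc ▸ inferInstanceAs (IsOpenImmersion (c ≫ N.ι)), Set.Subset.antisymm hrange fun x hx => ?_⟩
  exact ⟨l ⟨x, hx⟩, by rw [← Scheme.Hom.comp_apply, hl]; rfl⟩

end Groth.Agent.GrpSGA.Represent
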