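import Groth.Agent.GrpSGA.LocalProp
import Groth.Agent.GrpScheme.Basic
import Groth.Agent.GrpScheme.Points
import Groth.Prelude.Def_AlgGrp

/-!
# Propagation of local properties of homomorphisms and orbit maps along the group law
-/

set_option autoImplicit false

universe u

open CategoryTheory MonoidalCategory CartesianMonoidalCategory MonObj GrpObj AlgebraicGeometry Limits
open Groth.Agent.GrpScheme Groth.Agent.GrpSGA.LocalProp

namespace Groth.Agent.GrpSGA.Translate

variable {S : Scheme.{u}} {G X : Over S} [GrpObj G]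

lemma comp_orbitMap (a : AlgGrp.Action G X) (s₀ : 𝟙_ (Over S) ⟶ X) {T : Over S} (h : T ⟶ G) :
    h ≫ a.orbitMap s₀ = Basic.smul a h (toUnit T ≫ s₀) := by
  simp [AlgGrp.Action.orbitMap, Basic.smul, comp_lift_assoc]

/-- The orbit map commutes with the translations. -/
lemma shear_orbitMap (a : AlgGrp.Action G X) (s₀ : 𝟙_ (Over S) ⟶ X) :
    (Basic.shear (Basic.leftAction G) (𝟙 G)).hom ≫ G ◁ a.orbitMap s₀ =
      G ◁ a.orbitMap s₀ ≫ (Basic.shear a (𝟙 G)).hom := by
  refine CartesianMonoidalCategory.hom_ext _ _ (by simp [Basic.shear]) ?_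
  simp only [Category.assoc, whiskerLeft_snd, Basic.shear, lift_snd, lift_snd_assoc,
    Category.comp_id, Basic.comp_smul, whiskerLeft_fst, comp_orbitMap, comp_toUnit_assoc]
  rw [← Basic.mul_smul', show Basic.smul (Basic.leftAction G) (fst G G) (snd G G) = fst G G * snd G G
    from (Hom.mul_def _ _).symm]

/-- The key step: flat base change, translation and descent. -/
theorem mul_iff {Q : PtProp.{u}} {R : MorphismProperty Scheme.{u}} [R.IsStableUnderBaseChange]
    (hbc : BC Q) (hdesc : Desc Q R) (a : AlgGrp.Action G X) (s₀ : 𝟙_ (Over S) ⟶ X)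
    (z : (G ⊗ G).left) (hgood : AtPt R G.hom ((fst G G).left z)) :
    Q (a.orbitMap s₀).left (μ[G].left z) ↔ Q (a.orbitMap s₀).left ((snd G G).left z) := by
  let φ := a.orbitMap s₀
  let sh := (Basic.shear (Basic.leftAction G) (𝟙 G)).hom
  let τ := (Basic.shear a (𝟙 G)).hom
  have hsh : IsIso sh.left := @Basic.isIso_left _ _ _ _ (Iso.isIso_hom _)
  have hτ : IsIso τ.left := @Basic.isIso_left _ _ _ _ (Iso.isIso_hom _)
  have sqF : IsPullback (snd G G).left (G ◁ φ).left φ.left (snd G X).left :=
    ((Basic.isPullback_whiskerLeft φ (R := G)).flip.map (Over.forget S))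
  have hw : sh.left ≫ (G ◁ φ).left = (G ◁ φ).left ≫ τ.left := by
    rw [← Over.comp_left, ← Over.comp_left]
    exact congrArg CommaMorphism.left (shear_orbitMap a s₀)
  have sqT : IsPullback sh.left (G ◁ φ).left (G ◁ φ).left τ.left := IsPullback.of_horiz_isIso ⟨hw⟩
  have key : ∀ y : (G ⊗ G).left, AtPt R G.hom ((fst G G).left y) →
      (Q (G ◁ φ).left y ↔ Q φ.left ((snd G G).left y)) := fun y hy => by
    refine ⟨fun h => hdesc sqF y ?_ h, fun h => hbc sqF y h⟩
    refine FlatOpen.FibreMapAt.nhd_baseChange R (IsPullback.of_hasPullback G.hom X.hom)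
      ((G ◁ φ).left y) ?_
    have e : (fst G X).left ((G ◁ φ).left y) = (fst G G).left y :=
      (Points.comp_apply _ _ _).symm.trans congr(($(whiskerLeft_fst G φ)).left y)
    change AtPt R G.hom ((fst G X).left ((G ◁ φ).left y))
    rw [e]
    exact hy
  have hconj : Q (G ◁ φ).left (sh.left z) ↔ Q (G ◁ φ).left z := by
    refine ⟨fun h => hbc sqT z h, fun h => ?_⟩
    have sqI : IsPullback (inv sh.left) (G ◁ φ).left (G ◁ φ).left (inv τ.left) :=
      IsPullback.of_horiz_isIso ⟨by rw [IsIso.inv_comp_eq, ← Category.assoc, IsIso.eq_comp_inv]; exact hw.symm⟩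
    refine hbc sqI (sh.left z) ?_
    convert h using 2
    rw [← Scheme.Hom.comp_apply, IsIso.hom_inv_id]
    rfl
  have hμ : μ[G].left z = (snd G G).left (sh.left z) :=
    (congr(($(Basic.mul_eq_shear_comp_snd (G := G))).left z)).trans (Points.comp_apply _ _ _)
  have hfst : (fst G G).left (sh.left z) = (fst G G).left z := by
    rw [← Points.comp_apply]
    simp [sh, Basic.shear]
  rw [hμ, ← key _ (hfst ▸ hgood), ← key _ hgood, hconj]

/-- A homomorphism as the orbit map of an action. -/
noncomputable def homAction {H : Over S} [GrpObj H] (u : G ⟶ H) [IsMonHom u] : AlgGrp.Action G H where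
  act := (fst G H ≫ u) * snd G H
  one_act := by
    rw [MonObj.comp_mul, whiskerRight_fst_assoc, IsMonHom.one_hom, whiskerRight_snd, leftUnitor_hom,
      show fst (𝟙_ (Over S)) H ≫ η[H] = 1 by rw [Hom.one_def, toUnit_unique (fst _ _)]]
    exact _root_.one_mul _
  mul_act := by
    have hμ : μ[G] = fst G G * snd G G := (mul_eq_mul (M := G))
    simp only [MonObj.comp_mul, whiskerRight_fst_assoc, whiskerRight_snd, hμ, MonObj.mul_comp,
      associator_hom_fst_assoc, whiskerLeft_fst_assoc, whiskerLeft_snd, associator_hom_snd_fst_assoc,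
      associator_hom_snd_snd, Category.assoc]
    exact _root_.mul_assoc _ _ _

lemma orbitMap_homAction {H : Over S} [GrpObj H] (u : G ⟶ H) [IsMonHom u] :
    (homAction u).orbitMap η[H] = u := by
  rw [AlgGrp.Action.orbitMap, homAction, MonObj.comp_mul, lift_fst_assoc, lift_snd, Category.id_comp,
    ← Hom.one_def, _root_.mul_one]

/-- The key step for homomorphisms. -/
theorem hom_mul_iff {Q : PtProp.{u}} {R : MorphismProperty Scheme.{u}} [R.IsStableUnderBaseChange]
    (hbc : BC Q) (hdesc : Desc Q R) {H : Over S} [GrpObj H] (u : G ⟶ H) [IsMonHom u]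
    (z : (G ⊗ G).left) (hgood : AtPt R G.hom ((fst G G).left z)) :
    Q u.left (μ[G].left z) ↔ Q u.left ((snd G G).left z) := by
  have := mul_iff hbc hdesc (homAction u) η[H] z hgood
  rwa [orbitMap_homAction] at this

/-- Any two points of a fibre are `μ z` and `snd z` for some `z`. -/
lemma exists_mul_snd {x y : G.left} (h : G.hom x = G.hom y) :
    ∃ z : (G ⊗ G).left, μ[G].left z = x ∧ (snd G G).left z = y := by
  obtain ⟨w, hw₁, hw₂⟩ := Scheme.Pullback.exists_preimage_pullback (f := G.hom) (g := G.hom) x y h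
  refine ⟨(Basic.shearRight G).inv.left w, ?_, ?_⟩
  · rw [← Points.comp_apply, show (Basic.shearRight G).inv ≫ μ[G] = fst G G by
      rw [Iso.inv_comp_eq]; simp [Basic.shearRight]]
    exact hw₁
  · rw [← Points.comp_apply, show (Basic.shearRight G).inv ≫ snd G G = snd G G by
      simp [Basic.shearRight]]
    exact hw₂

variable (G) in
lemma one_apply (x : G.left) : (1 : G ⟶ G).left x = η[G].left (G.hom x) := by
  rw [Hom.one_def, Points.comp_apply]
  rfl

/-- With a good structure map everywhere the property is constant on the fibres. -/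
theorem iff_of_same_fibre {Q : PtProp.{u}} {R : MorphismProperty Scheme.{u}} [R.IsStableUnderBaseChange]
    (hbc : BC Q) (hdesc : Desc Q R) (hgood : ∀ x, AtPt R G.hom x) (a : AlgGrp.Action G X)
    (s₀ : 𝟙_ (Over S) ⟶ X) {x y : G.left} (h : G.hom x = G.hom y) :
    Q (a.orbitMap s₀).left x ↔ Q (a.orbitMap s₀).left y := by
  obtain ⟨z, rfl, rfl⟩ := exists_mul_snd h
  exact mul_iff hbc hdesc a s₀ z (hgood _)

theorem hom_iff_of_same_fibre {Q : PtProp.{u}} {R : MorphismProperty Scheme.{u}}
    [R.IsStableUnderBaseChange] (hbc : BC Q) (hdesc : Desc Q R) (hgood : ∀ x, AtPt R G.hom x)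
    {H : Over S} [GrpObj H] (u : G ⟶ H) [IsMonHom u] {x y : G.left} (h : G.hom x = G.hom y) :
    Q u.left x ↔ Q u.left y := by
  obtain ⟨z, rfl, rfl⟩ := exists_mul_snd h
  exact hom_mul_iff hbc hdesc u z (hgood _)

/-- A set of points with the property, over which the structure map is good, is a subgroup. -/
theorem subgroup_of_good {Q : PtProp.{u}} {R : MorphismProperty Scheme.{u}}
    [R.IsStableUnderBaseChange] (hbc : BC Q) (hdesc : Desc Q R) {H : Over S} [GrpObj H] (u : G ⟶ H)
    [IsMonHom u] (V : Set G.left) (hV : ∀ x, x ∈ V ↔ Q u.left x) (hgood : ∀ x ∈ V, AtPt R G.hom x) :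
    (∀ g ∈ V, ∀ p : (𝟙_ (Over S)).left, (𝟙_ (Over S)).hom p = G.hom g → η[G].left p ∈ V) ∧
    (∀ g ∈ V, ι[G].left g ∈ V) ∧
    (∀ z : (G ⊗ G).left, (fst G G).left z ∈ V → (snd G G).left z ∈ V → μ[G].left z ∈ V) := by
  have hone : ∀ g ∈ V, η[G].left (G.hom g) ∈ V := fun g hg => by
    let z := (lift (𝟙 G) (1 : G ⟶ G)).left g
    have hf : (fst G G).left z = g := by rw [← Points.comp_apply, lift_fst]; rfl
    have hm : μ[G].left z = g := by
      rw [← Points.comp_apply, ← Hom.mul_def, _root_.mul_one]; rfl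
    have hs : (snd G G).left z = η[G].left (G.hom g) := by
      rw [← Points.comp_apply, lift_snd, one_apply]
    rw [← hs, hV, ← hom_mul_iff hbc hdesc u z (hf.symm ▸ hgood g hg), hm, ← hV]
    exact hg
  refine ⟨fun g hg p hp => ?_, fun g hg => ?_, fun z h₁ h₂ => ?_⟩
  · have hp' : p = G.hom g := hp
    subst hp'
    exact hone g hg
  · let z := (lift (𝟙 G) (𝟙 G)⁻¹).left g
    have hf : (fst G G).left z = g := by rw [← Points.comp_apply, lift_fst]; rfl
    have hm : μ[G].left z = η[G].left (G.hom g) := by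
      rw [← Points.comp_apply, ← Hom.mul_def, mul_inv_cancel, one_apply]
    have hs : (snd G G).left z = ι[G].left g := by
      rw [← Points.comp_apply, lift_snd, Hom.inv_def, Category.id_comp]
    rw [← hs, hV, ← hom_mul_iff hbc hdesc u z (hf.symm ▸ hgood g hg), hm, ← hV]
    exact hone g hg
  · rw [hV, hom_mul_iff hbc hdesc u z (hgood _ h₁), ← hV]
    exact h₂

/-- The largest open with a property local on the source consists of the points near which it holds. -/
theorem mem_max_iff {P : MorphismProperty Scheme.{u}} {A B : Scheme.{u}} (f : A ⟶ B) (V : A.Opens)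
    (hV : P (V.ι ≫ f)) (hmax : ∀ W : A.Opens, P (W.ι ≫ f) → W ≤ V) (x : A) :
    x ∈ V ↔ AtPt P f x :=
  ⟨fun hx => ⟨V, hx, hV⟩, fun ⟨W, hx, hW⟩ => hmax W hW hx⟩

end Groth.Agent.GrpSGA.Translate
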